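import Groth.Agent.Lib.HopfFlat20.Galois
import Groth.Agent.Lib.Chevalley.Basic
import Groth.Agent.Lib.CoalgH23.Dual

/-!
# Finitely generated Hopf subalgebras exhaust
-/

universe u v

open TensorProduct Coalgebra HopfAlgebra

namespace Groth.Agent.HopfFlat

variable {k : Type u} [Field k] {A : Type u} [CommRing A] [HopfAlgebra k A]

/-- A finite set is contained in a finite set spanning a subcoalgebra. -/
theorem exists_matrix_entries (x : A) :
    ∃ M : Finset A, x ∈ Submodule.span k (M : Set A) ∧
      ∀ m ∈ M, ∃ (n : ℕ) (a b : Fin n → A), (∀ i, a i ∈ M ∧ b i ∈ M) ∧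
        comul (R := k) m = ∑ i, a i ⊗ₜ[k] b i := by
  classical
  obtain ⟨N, hN, hfin, hx⟩ := Comodule.exists_finite_subcomod (k := k) (A := A) (V := A) x
  haveI := hfin
  letI := Comodule.subComod (k := k) (A := A) N hN
  let e := Module.finBasis k N
  let X := Chevalley.matrixOf (A := A) e
  have hmul := Chevalley.isMul_matrixOf (A := A) e
  refine ⟨Finset.univ.image fun p : _ × _ => X p.1 p.2, ?_, ?_⟩
  · have h : ∀ j, (e j : A) ∈
        Submodule.span k ((Finset.univ.image fun p : _ × _ => X p.1 p.2 : Finset A) : Set A) := by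
      intro j
      have h1 : comul (R := k) (e j : A) = ∑ i, (e i : A) ⊗ₜ[k] X i j := by
        have := congrArg (N.subtype.rTensor A) (Chevalley.coact_basis (A := A) e j)
        rw [map_sum] at this
        exact (Comodule.rTensor_coactRestrict N hN (e j)).symm.trans this
      have h2 : (e j : A) = ∑ i, counit (R := k) (e i : A) • X i j := by
        have := congrArg (fun z => TensorProduct.lid k A ((counit (R := k)).rTensor A z)) h1
        simpa [rTensor_counit_comul] using this
      rw [h2]
      exact Submodule.sum_mem _ fun i _ => Submodule.smul_mem _ _ (Submodule.subset_span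
        (Finset.mem_coe.2 (Finset.mem_image.2 ⟨(i, j), Finset.mem_univ _, rfl⟩)))
    have hxr : x = ∑ j, e.repr ⟨x, hx⟩ j • (e j : A) := by
      have := congrArg Subtype.val (e.sum_repr ⟨x, hx⟩)
      simp only [AddSubmonoidClass.coe_finset_sum, Submodule.coe_smul] at this
      exact this.symm
    rw [hxr]
    exact Submodule.sum_mem _ fun j _ => Submodule.smul_mem _ _ (h j)
  · intro m hm
    obtain ⟨⟨i, j⟩, -, rfl⟩ := Finset.mem_image.1 hm
    exact ⟨_, fun l => X i l, fun l => X l j,
      fun l => ⟨Finset.mem_image.2 ⟨(i, l), Finset.mem_univ _, rfl⟩,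
        Finset.mem_image.2 ⟨(l, j), Finset.mem_univ _, rfl⟩⟩, hmul.comul i j⟩

/-- A finite set lies in a finitely generated Hopf subalgebra. -/
theorem exists_fg_isSub (s : Finset A) :
    ∃ T : Subalgebra k A, IsSub T ∧ T.FG ∧ ↑s ⊆ (T : Set A) := by
  classical
  choose M hM hMΔ using exists_matrix_entries (k := k) (A := A)
  let G : Finset A := s.biUnion M
  let S : Finset A := G ∪ G.image (antipode k)
  let T := Algebra.adjoin k (S : Set A)
  refine ⟨T, ⟨?_, ?_⟩, ⟨S, rfl⟩, fun x hx => ?_⟩
  · let f := Algebra.TensorProduct.map T.val T.val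
    suffices h : T ≤ f.range.comap (Bialgebra.comulAlgHom k A) from fun b hb => h hb
    refine Algebra.adjoin_le fun a ha => ?_
    show comul (R := k) a ∈ f.range
    have hG : ∀ g ∈ G, comul (R := k) g ∈ f.range ∧ comul (R := k) (antipode k g) ∈ f.range := by
      intro g hg
      obtain ⟨x, hx, hg⟩ := Finset.mem_biUnion.1 hg
      obtain ⟨n, a, b, hab, he⟩ := hMΔ x g hg
      have ha : ∀ i, a i ∈ T ∧ b i ∈ T ∧ antipode k (a i) ∈ T ∧ antipode k (b i) ∈ T := fun i => by
        have h1 : a i ∈ G := Finset.mem_biUnion.2 ⟨x, hx, (hab i).1⟩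
        have h2 : b i ∈ G := Finset.mem_biUnion.2 ⟨x, hx, (hab i).2⟩
        exact ⟨Algebra.subset_adjoin (Finset.mem_coe.2 (Finset.mem_union_left _ h1)),
          Algebra.subset_adjoin (Finset.mem_coe.2 (Finset.mem_union_left _ h2)),
          Algebra.subset_adjoin (Finset.mem_coe.2 (Finset.mem_union_right _ (Finset.mem_image_of_mem _ h1))),
          Algebra.subset_adjoin (Finset.mem_coe.2 (Finset.mem_union_right _ (Finset.mem_image_of_mem _ h2)))⟩
      refine ⟨⟨∑ i, (⟨a i, (ha i).1⟩ : T) ⊗ₜ[k] (⟨b i, (ha i).2.1⟩ : T), by simp [f, he]⟩,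
        ⟨∑ i, (⟨_, (ha i).2.2.2⟩ : T) ⊗ₜ[k] (⟨_, (ha i).2.2.1⟩ : T), ?_⟩⟩
      rw [CoalgH23.comul_antipode, he]
      simp [f, map_sum]
    rcases Finset.mem_union.1 (Finset.mem_coe.1 ha) with h | h
    · exact (hG a h).1
    · obtain ⟨g, hg, rfl⟩ := Finset.mem_image.1 h
      exact (hG g hg).2
  · suffices h : T ≤ T.comap (antipodeAlgHom k A) from fun b hb => h hb
    refine Algebra.adjoin_le fun a ha => ?_
    show antipode k a ∈ T
    rcases Finset.mem_union.1 (Finset.mem_coe.1 ha) with h | h
    · exact Algebra.subset_adjoin (Finset.mem_coe.2 (Finset.mem_union_right _ (Finset.mem_image_of_mem _ h)))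
    · obtain ⟨g, hg, rfl⟩ := Finset.mem_image.1 h
      rw [CoalgH23.antipode_antipode]
      exact Algebra.subset_adjoin (Finset.mem_coe.2 (Finset.mem_union_left _ hg))
  · have hle : Submodule.span k (M x : Set A) ≤ Subalgebra.toSubmodule T := Submodule.span_le.2 fun y hy =>
      Algebra.subset_adjoin (Finset.mem_coe.2 (Finset.mem_union_left _
        (Finset.mem_biUnion.2 ⟨x, hx, hy⟩)))
    exact hle (hM x)

end Groth.Agent.HopfFlat
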