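import Groth.Agent.Lib.HopfFlat20.AlgClosed
import Groth.Agent.Lib.HopfFlat20.Fg
import Mathlib.FieldTheory.IsAlgClosed.AlgebraicClosure
import Mathlib.RingTheory.Bialgebra.TensorProduct
import Mathlib.RingTheory.Flat.EquationalCriterion
import Mathlib.Algebra.Field.ULift

/-!
# A commutative Hopf algebra is faithfully flat over every Hopf subalgebra
-/

universe u v w

open TensorProduct

namespace Groth.Agent.HopfFlat

/-- Faithful flatness descends along a faithfully flat second map. -/
theorem faithfullyFlat_of_comp {R : Type u} {S : Type v} {T : Type w} [CommRing R] [CommRing S] [CommRing T]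
    [Algebra R S] [Algebra S T] [Algebra R T] [IsScalarTower R S T] [Module.FaithfullyFlat S T]
    [Module.FaithfullyFlat R T] : Module.FaithfullyFlat R S := by
  haveI : Module.Flat R S := by
    refine Module.Flat.iff_lTensor_preserves_injective_linearMap.2 fun N P _ _ _ _ a ha => ?_
    let G : S ⊗[R] N →ₗ[S] S ⊗[R] P := a.baseChange S
    suffices Function.Injective G by exact this
    rw [← Module.FaithfullyFlat.lTensor_injective_iff_injective S T]
    let eN := TensorProduct.AlgebraTensorModule.cancelBaseChange R S S T N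
    let eP := TensorProduct.AlgebraTensorModule.cancelBaseChange R S S T P
    have hcomm : ∀ z, eP (G.lTensor T z) = a.lTensor T (eN z) := by
      intro z
      induction z with
      | zero => simp
      | add x y hx hy => simp [map_add, hx, hy]
      | tmul c w =>
        induction w with
        | zero => simp
        | add x y hx hy => simp only [tmul_add, map_add, hx, hy]
        | tmul b n => simp [eP, eN, G]
    intro x y hxy
    apply eN.injective
    refine Module.Flat.lTensor_preserves_injective_linearMap (M := T) a ha ?_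
    rw [← hcomm, ← hcomm, hxy]
  refine ⟨fun m hm htop => ?_⟩
  rw [Ideal.smul_top_eq_map, Submodule.restrictScalars_eq_top_iff] at htop
  refine Module.FaithfullyFlat.submodule_ne_top (R := R) (M := T) hm ?_
  rw [Ideal.smul_top_eq_map, Submodule.restrictScalars_eq_top_iff, IsScalarTower.algebraMap_eq R S T,
    ← Ideal.map_map, htop, Ideal.map_top]

/-- An injective map of finitely generated commutative Hopf algebras over a field is faithfully flat. -/
theorem faithfullyFlat_of_injective {k : Type u} {B : Type v} {A : Type w} [Field k] [CommRing B]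
    [CommRing A] [HopfAlgebra k B] [HopfAlgebra k A] [Algebra.FiniteType k B] [Algebra.FiniteType k A]
    (f : B →ₐc[k] A) (hf : Function.Injective f) : (f : B →+* A).FaithfullyFlat := by
  let K := AlgebraicClosure (ULift.{max u v w} k)
  let fK : K ⊗[k] B →ₐc[K] K ⊗[k] A := Bialgebra.TensorProduct.map (BialgHom.id K K) f
  have hfK : Function.Injective fK :=
    Module.Flat.lTensor_preserves_injective_linearMap (M := K) (f : B →ₐ[k] A).toLinearMap hf
  haveI : Algebra.FiniteType K (K ⊗[k] B) := inferInstance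
  haveI : Algebra.FiniteType K (K ⊗[k] A) := inferInstance
  have h := faithfullyFlat_of_isAlgClosed fK hfK
  letI : Algebra B A := (f : B →+* A).toAlgebra
  letI := Algebra.TensorProduct.rightAlgebra (R := k) (A := K) (B := A)
  letI := Algebra.TensorProduct.rightAlgebra (R := k) (A := K) (B := B)
  letI : Algebra B (K ⊗[k] A) := ((algebraMap A (K ⊗[k] A)).comp (f : B →+* A)).toAlgebra
  haveI : IsScalarTower B A (K ⊗[k] A) := IsScalarTower.of_algebraMap_eq fun _ => rfl
  haveI : Module.FaithfullyFlat A (K ⊗[k] A) := Module.FaithfullyFlat.of_linearEquiv _ _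
    (Algebra.TensorProduct.commRight k A K).symm.toLinearEquiv
  haveI : Module.FaithfullyFlat B (K ⊗[k] A) := by
    rw [← RingHom.faithfullyFlat_algebraMap_iff]
    have hB : (algebraMap B (K ⊗[k] B)).FaithfullyFlat := by
      haveI : Module.FaithfullyFlat B (K ⊗[k] B) := Module.FaithfullyFlat.of_linearEquiv _ _
        (Algebra.TensorProduct.commRight k B K).symm.toLinearEquiv
      exact RingHom.faithfullyFlat_algebraMap_iff.2 inferInstance
    have e : algebraMap B (K ⊗[k] A) = (fK : K ⊗[k] B →+* K ⊗[k] A).comp (algebraMap B (K ⊗[k] B)) :=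
      RingHom.ext fun b => rfl
    rw [e]
    letI : Algebra (K ⊗[k] B) (K ⊗[k] A) := (fK : K ⊗[k] B →+* K ⊗[k] A).toAlgebra
    haveI : IsScalarTower B (K ⊗[k] B) (K ⊗[k] A) := IsScalarTower.of_algebraMap_eq fun b => RingHom.congr_fun e b
    haveI : Module.FaithfullyFlat (K ⊗[k] B) (K ⊗[k] A) := h
    haveI : Module.FaithfullyFlat B (K ⊗[k] B) := RingHom.faithfullyFlat_algebraMap_iff.1 hB
    rw [← e, RingHom.faithfullyFlat_algebraMap_iff]
    exact Module.FaithfullyFlat.trans B (K ⊗[k] B) (K ⊗[k] A)
  exact faithfullyFlat_of_comp (R := B) (S := A) (T := K ⊗[k] A)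

variable {k : Type u} [Field k] {A : Type u} [CommRing A] [HopfAlgebra k A]

/-- Nested finitely generated Hopf subalgebras. -/
theorem exists_stage (B : Subalgebra k A) (hB : IsSub B) (s : Finset B) (t : Finset A) :
    ∃ (B₀ A₀ : Subalgebra k A), B₀ ≤ B ∧ B₀ ≤ A₀ ∧ ((↑) '' (↑s : Set B) : Set A) ⊆ B₀ ∧ ↑t ⊆ (A₀ : Set A) ∧
      ∀ (h : B₀ ≤ A₀), (Subalgebra.inclusion h : B₀ →+* A₀).FaithfullyFlat := by
  classical
  obtain ⟨H, _, _, e, he, hΔ⟩ := FinGrp.exists_hopf_sub B hB.comul_mem hB.antipode_mem
  let j : H →ₐc[k] A := BialgHom.ofAlgHom (B.val.comp e.toAlgHom) (AlgHom.ext fun b => (he b).symm)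
    (AlgHom.ext fun b => hΔ b)
  obtain ⟨T₀, hT₀, hT₀fg, hs⟩ := exists_fg_isSub (k := k) (s.image e.symm)
  let B₀ := T₀.map (j : H →ₐ[k] A)
  have hB₀ : IsSub B₀ := hT₀.map j
  obtain ⟨gen, hgen⟩ := hT₀fg.map (j : H →ₐ[k] A)
  obtain ⟨A₀, hA₀, hA₀fg, ht⟩ := exists_fg_isSub (k := k) (t ∪ gen)
  have hle : B₀ ≤ A₀ := by
    show T₀.map _ ≤ A₀
    rw [← hgen]
    exact Algebra.adjoin_le fun x hx => ht (Finset.mem_coe.2 (Finset.mem_union_right _ hx))
  refine ⟨B₀, A₀, ?_, hle, ?_, fun x hx => ht (Finset.mem_coe.2 (Finset.mem_union_left _ hx)), fun h => ?_⟩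
  · rintro _ ⟨x, -, rfl⟩
    exact (e x).2
  · rintro _ ⟨x, hx, rfl⟩
    refine ⟨e.symm x, hs (Finset.mem_coe.2 (Finset.mem_image_of_mem _ (Finset.mem_coe.1 hx))), ?_⟩
    exact congrArg Subtype.val (e.apply_symm_apply x)
  · obtain ⟨HB, _, _, eB, hεB, hΔB⟩ := FinGrp.exists_hopf_sub B₀ hB₀.comul_mem hB₀.antipode_mem
    obtain ⟨HA, _, _, eA, hεA, hΔA⟩ := FinGrp.exists_hopf_sub A₀ hA₀.comul_mem hA₀.antipode_mem
    let g : HB →ₐ[k] HA := eA.symm.toAlgHom.comp ((Subalgebra.inclusion h).comp eB.toAlgHom)
    have hg : ∀ x, ((eA (g x) : A₀) : A) = (eB x : A) := fun x => by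
      show ((eA (eA.symm _) : A₀) : A) = _
      rw [eA.apply_symm_apply]
      rfl
    have hinj : Function.Injective (A₀.val.comp eA.toAlgHom) := fun x y hxy => eA.injective (Subtype.ext hxy)
    let gB : HB →ₐc[k] HA := BialgHom.ofAlgHom g
      (AlgHom.ext fun x => by
        show Coalgebra.counit (R := k) (g x) = Coalgebra.counit (R := k) x
        rw [hεA, hεB, hg])
      (AlgHom.ext fun x => by
        refine TensorProduct.map_injective_of_flat_flat (A₀.val.comp eA.toAlgHom).toLinearMap
          (A₀.val.comp eA.toAlgHom).toLinearMap hinj hinj ?_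
        show Algebra.TensorProduct.map (A₀.val.comp eA.toAlgHom) (A₀.val.comp eA.toAlgHom)
            (Algebra.TensorProduct.map g g (Coalgebra.comul (R := k) x)) =
          Algebra.TensorProduct.map (A₀.val.comp eA.toAlgHom) (A₀.val.comp eA.toAlgHom)
            (Coalgebra.comul (R := k) (g x))
        rw [hΔA, hg, ← hΔB]
        induction Coalgebra.comul (R := k) x using TensorProduct.induction_on with
        | zero => simp
        | add a b ha hb => simp only [map_add, ha, hb]
        | tmul a b =>
          show (eA (g a) : A) ⊗ₜ[k] (eA (g b) : A) = (eB a : A) ⊗ₜ[k] (eB b : A)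
          rw [hg, hg])
    haveI : Algebra.FiniteType k HB :=
      haveI : Algebra.FiniteType k B₀ := (Subalgebra.fg_iff_finiteType _).1 ⟨gen, hgen⟩
      Algebra.FiniteType.equiv inferInstance eB.symm
    haveI : Algebra.FiniteType k HA :=
      haveI : Algebra.FiniteType k A₀ := (Subalgebra.fg_iff_finiteType _).1 hA₀fg
      Algebra.FiniteType.equiv inferInstance eA.symm
    have hff := faithfullyFlat_of_injective gB fun x y hxy =>
      eB.injective (Subtype.ext (by rw [← hg, ← hg]; exact congrArg (fun z => ((eA z : A₀) : A)) hxy))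
    have : (Subalgebra.inclusion h : B₀ →+* A₀) =
        ((eA.toAlgHom : HA →+* A₀).comp (gB : HB →+* HA)).comp (eB.symm.toAlgHom : B₀ →+* HB) :=
      RingHom.ext fun x => Subtype.ext (by
        show (x : A) = ((eA (g (eB.symm x)) : A₀) : A)
        rw [hg, eB.apply_symm_apply])
    rw [this]
    exact RingHom.FaithfullyFlat.stableUnderComposition _ _ (.of_bijective eB.symm.bijective)
      (RingHom.FaithfullyFlat.stableUnderComposition _ _ hff (.of_bijective eA.bijective))

/-- A commutative Hopf algebra over a field is faithfully flat over every Hopf subalgebra. -/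
theorem IsSub.faithfullyFlat {B : Subalgebra k A} (hB : IsSub B) : Module.FaithfullyFlat B A := by
  classical
  haveI : Module.Flat B A := by
    rw [Module.Flat.iff_forall_isTrivialRelation]
    intro l f x hfx
    obtain ⟨B₀, A₀, hB0, hle, hs, ht, hff⟩ :=
      exists_stage B hB (Finset.univ.image f) (Finset.univ.image x)
    specialize hff hle
    letI : Algebra B₀ A₀ := (Subalgebra.inclusion hle).toRingHom.toAlgebra
    haveI : Module.Flat B₀ A₀ := RingHom.flat_algebraMap_iff.1 hff.flat
    have hf : ∀ i, (f i : A) ∈ B₀ := fun i => hs ⟨f i, by simp, rfl⟩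
    have hx : ∀ i, x i ∈ A₀ := fun i => ht (by simp)
    have hrel : ∑ i, (⟨f i, hf i⟩ : B₀) • (⟨x i, hx i⟩ : A₀) = 0 := by
      refine Subtype.ext ?_
      simp only [AddSubmonoidClass.coe_finset_sum, ZeroMemClass.coe_zero]
      exact hfx
    obtain ⟨κ, a, y, hxy, ha⟩ := (Module.Flat.iff_forall_isTrivialRelation (R := B₀) (M := A₀)).1 inferInstance hrel
    refine ⟨κ, fun i j => ⟨a i j, hB0 (a i j).2⟩, fun j => (y j : A), fun i => ?_, fun j => ?_⟩
    · have := congrArg Subtype.val (hxy i)
      simp only [AddSubmonoidClass.coe_finset_sum] at this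
      exact this
    · refine Subtype.ext ?_
      have := congrArg Subtype.val (ha j)
      simp only [AddSubmonoidClass.coe_finset_sum, ZeroMemClass.coe_zero] at this ⊢
      exact this
  refine ⟨fun m hm htop => ?_⟩
  rw [Ideal.smul_top_eq_map, Submodule.restrictScalars_eq_top_iff] at htop
  have h1 : (1 : A) ∈ Ideal.map (algebraMap B A) m := by rw [htop]; exact Submodule.mem_top
  rw [Ideal.map, Ideal.span, Submodule.mem_span_iff_exists_finset_subset] at h1
  obtain ⟨c, S, hS, -, hc⟩ := h1
  choose b hbm hb using fun z : S => hS z.2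
  obtain ⟨B₀, A₀, hB0, hle, hs, ht, hff⟩ :=
    exists_stage B hB (Finset.univ.image b) (Finset.univ.image fun z : S => c z.1)
  specialize hff hle
  letI : Algebra B₀ A₀ := (Subalgebra.inclusion hle).toRingHom.toAlgebra
  haveI : Module.FaithfullyFlat B₀ A₀ := RingHom.faithfullyFlat_algebraMap_iff.1 hff
  let m₀ : Ideal B₀ := m.comap (Subalgebra.inclusion hB0)
  have h2 : (1 : A₀) ∈ m₀.map (algebraMap B₀ A₀) := by
    have e : (1 : A₀) = ∑ z : S, (⟨c z.1, ht (Finset.mem_coe.2 (Finset.mem_image_of_mem _
          (Finset.mem_univ z)))⟩ : A₀) *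
        algebraMap B₀ A₀ ⟨b z, hs ⟨b z, Finset.mem_coe.2 (Finset.mem_image_of_mem _ (Finset.mem_univ z)), rfl⟩⟩ := by
      refine Subtype.ext ?_
      simp only [AddSubmonoidClass.coe_finset_sum, MulMemClass.coe_mul, OneMemClass.coe_one]
      rw [← hc, ← Finset.sum_coe_sort]
      refine Finset.sum_congr rfl fun z _ => ?_
      show c z.1 * (z.1 : A) = _
      rw [← hb z]
      rfl
    rw [e]
    exact Ideal.sum_mem _ fun z _ => Ideal.mul_mem_left _ _ (Ideal.mem_map_of_mem _ (hbm z))
  have h3 : (1 : B₀) ∈ m₀ := by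
    rw [← Ideal.comap_map_eq_self_of_faithfullyFlat (B := A₀) m₀, Ideal.mem_comap, map_one]
    exact h2
  exact hm.ne_top ((Ideal.eq_top_iff_one m).2 h3)

end Groth.Agent.HopfFlat
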