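import Groth.Agent.Lib.HopfFlat20.Galois
import Mathlib.RingTheory.TensorProduct.Free
import Mathlib.RingTheory.Flat.Basic

/-!
# Freeness over a sub Hopf algebra with nilpotent augmentation ideal
-/

universe u

open TensorProduct Coalgebra HopfAlgebra

namespace Groth.Agent.HopfFlat

variable {k : Type u} [Field k] {A : Type u} [CommRing A] [HopfAlgebra k A] (B : Subalgebra k A)

/-- The augmentation ideal of a subalgebra. -/
abbrev augB : Ideal B := RingHom.ker ((Bialgebra.counitAlgHom k A).comp B.val)

theorem map_augB : (augB B).map (algebraMap B A) = augJ B := by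
  rw [Ideal.map]
  congr 1
  ext a
  constructor
  · rintro ⟨b, hb, rfl⟩
    exact ⟨b.2, by exact (RingHom.mem_ker.1 hb :)⟩
  · rintro ⟨ha, h0⟩
    exact ⟨⟨a, ha⟩, by exact RingHom.mem_ker.2 h0, rfl⟩

variable {B}

set_option maxHeartbeats 1000000 in
/-- Freeness over a sub Hopf algebra with nilpotent augmentation ideal. -/
theorem IsSub.free_of_isNilpotent (hB : IsSub B) (hn : IsNilpotent (augB B)) : Module.Free B A := by
  classical
  let Q := A ⧸ augJ B
  let q : A →ₐ[k] Q := Ideal.Quotient.mkₐ k (augJ B)
  let e := Module.Free.chooseBasis k Q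
  choose v hv using fun i => Ideal.Quotient.mk_surjective (e i)
  -- generation
  let S : Submodule B A := Submodule.span B (Set.range v)
  have hS1 : S ⊔ augB B • (⊤ : Submodule B A) = ⊤ := by
    rw [eq_top_iff]
    rintro a -
    have hw : Finsupp.linearCombination k v (e.repr (q a)) ∈ S :=
      Submodule.span_le_restrictScalars k B _
        ((Finsupp.range_linearCombination (R := k) (v := v)).le ⟨_, rfl⟩)
    have hd : a - Finsupp.linearCombination k v (e.repr (q a)) ∈ augB B • (⊤ : Submodule B A) := by
      rw [Ideal.smul_top_eq_map, Submodule.restrictScalars_mem, map_augB, ← Ideal.Quotient.eq_zero_iff_mem]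
      show q.toLinearMap (a - _) = 0
      rw [map_sub, sub_eq_zero, Finsupp.apply_linearCombination]
      have : (q.toLinearMap ∘ v) = e := funext fun i => hv i
      rw [this, e.linearCombination_repr]
      rfl
    have := Submodule.add_mem_sup hw hd
    rwa [add_sub_cancel] at this
  have hS : ⊤ ≤ S := by
    obtain ⟨n, hn⟩ := hn
    have : ∀ m : ℕ, ⊤ ≤ S ⊔ augB B ^ m • (⊤ : Submodule B A) := by
      intro m
      induction m with
      | zero => rw [pow_zero, Ideal.one_eq_top, Submodule.top_smul]; exact le_sup_right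
      | succ m ih =>
        refine ih.trans (sup_le le_sup_left ?_)
        calc augB B ^ m • (⊤ : Submodule B A) = augB B ^ m • (S ⊔ augB B • (⊤ : Submodule B A)) := by rw [hS1]
          _ ≤ _ := by
            rw [Submodule.smul_sup, ← Submodule.mul_smul, ← pow_succ]
            exact sup_le_sup_right Submodule.smul_le_right _
    simpa [hn] using this n
  -- the Galois isomorphisms
  obtain ⟨Φ, hΦ⟩ := hB.exists_galois (R := A) (AlgHom.id k A) (fun _ => rfl)
  obtain ⟨Ψ, hΨ⟩ := hB.exists_galois (R := Q) q (fun _ => rfl)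
  let g : A →ₐ[B] Q ⊗[k] Q :=
    { ((Algebra.TensorProduct.includeRight : Q →ₐ[k] Q ⊗[k] Q).comp q) with
      commutes' := fun b => by
        show (1 : Q) ⊗ₜ[k] q (b : A) = q (b : A) ⊗ₜ[k] (1 : Q)
        rw [show q (b : A) = _ from mk_eq_counit B b.2, Algebra.algebraMap_eq_smul_one,
          TensorProduct.smul_tmul] }
  let nat : Q ⊗[B] A →ₐ[B] Q ⊗[k] Q := Algebra.TensorProduct.lift
    (Algebra.TensorProduct.includeLeft : Q →ₐ[B] Q ⊗[k] Q) g (fun _ _ => Commute.all _ _)
  let ψ : A ⊗[k] Q →ₐ[k] Q ⊗[k] Q := Algebra.TensorProduct.map q (AlgHom.id k Q)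
  let w : _ → A ⊗[k] Q := fun i => Φ ((1 : A) ⊗ₜ[B] v i)
  let π := Finsupp.linearCombination A w
  have hψ : ∀ i r, ψ (r • w i) = Ψ (q r ⊗ₜ[B] v i) := by
    intro i r
    have h1 : ψ (w i) = Ψ ((1 : Q) ⊗ₜ[B] v i) := by
      rw [hΨ]
      show ψ (Φ _) = _
      rw [hΦ]
      induction comul (R := k) (v i) using TensorProduct.induction_on with
      | zero => simp
      | add x y hx hy => simp only [map_add, hx, hy]
      | tmul x y => rfl
    have h2 : q r ⊗ₜ[B] v i = q r • ((1 : Q) ⊗ₜ[B] v i) := by simp [TensorProduct.smul_tmul']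
    rw [h2, _root_.map_smul Ψ, ← h1]
    induction w i using TensorProduct.induction_on with
    | zero => simp
    | add x y hx hy => simp only [smul_add, map_add, hx, hy]
    | tmul x y => simp [ψ, TensorProduct.smul_tmul']
  -- injective modulo the ideal
  have hker : ∀ x, π x = 0 → ∀ i, x i ∈ augJ B := by
    intro x hx i
    have h1 : Ψ (x.sum fun i r => q r ⊗ₜ[B] v i) = 0 := by
      rw [map_finsuppSum, ← show ψ (π x) = 0 by rw [hx, map_zero]]
      simp only [π, Finsupp.linearCombination_apply, map_finsuppSum, hψ]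
    have h2 : nat (x.sum fun i r => q r ⊗ₜ[B] v i) = 0 := by
      rw [(map_eq_zero_iff Ψ Ψ.injective).1 h1, map_zero]
    have h3 : (x.sum fun i r => q r ⊗ₜ[k] e i) = 0 := by
      rw [← h2, map_finsuppSum]
      refine Finsupp.sum_congr fun i _ => ?_
      simp only [nat, g, Algebra.TensorProduct.lift_tmul]
      show _ = (q (x i) ⊗ₜ[k] (1 : Q)) * ((1 : Q) ⊗ₜ[k] q (v i))
      rw [Algebra.TensorProduct.tmul_mul_tmul, mul_one, one_mul, show q (v i) = e i from hv i]
    have h4 : ((Algebra.TensorProduct.basis Q e).repr (x.sum fun i r => q r ⊗ₜ[k] e i)) i = q (x i) := by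
      rw [map_finsuppSum, Finsupp.sum_apply,
        Finsupp.sum_eq_single i
          (fun j _ hj => by rw [Algebra.TensorProduct.basis_repr_tmul]; simp [Finsupp.single_eq_of_ne' hj])
          (by simp)]
      rw [Algebra.TensorProduct.basis_repr_tmul]
      simp
    rw [h3, map_zero, Finsupp.zero_apply] at h4
    exact Ideal.Quotient.eq_zero_iff_mem.1 h4.symm
  have hsm : ∀ (b : B) (x : A), (1 : A) ⊗ₜ[B] (b • x) = (b : A) • ((1 : A) ⊗ₜ[B] x) := fun b x => by
    rw [← TensorProduct.smul_tmul, TensorProduct.smul_tmul', smul_eq_mul, mul_one, Subalgebra.smul_def,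
      smul_eq_mul, mul_one]
  -- surjective
  have hsurj : ∀ z, ∃ x, π x = z := by
    intro z
    show z ∈ LinearMap.range π
    obtain ⟨z, rfl⟩ := Φ.surjective z
    induction z using TensorProduct.induction_on with
    | zero => simp
    | add x y hx hy => rw [map_add]; exact add_mem hx hy
    | tmul r a =>
      have ha : a ∈ S := hS Submodule.mem_top
      have h0 : Φ ((1 : A) ⊗ₜ[B] a) ∈ LinearMap.range π := by
        induction ha using Submodule.span_induction with
        | mem a ha =>
          obtain ⟨i, rfl⟩ := ha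
          exact ⟨Finsupp.single i 1, by simp [π, w]⟩
        | zero => simp
        | add x y _ _ hx hy => rw [TensorProduct.tmul_add, map_add]; exact add_mem hx hy
        | smul b x _ hx =>
          rw [hsm, map_smul]
          exact Submodule.smul_mem _ _ hx
      have h1 : r ⊗ₜ[B] a = r • ((1 : A) ⊗ₜ[B] a) := by simp [TensorProduct.smul_tmul']
      rw [h1, map_smul]
      exact Submodule.smul_mem _ _ h0
  choose sec hsec using hsurj
  let bA := Algebra.TensorProduct.basis A e
  let u := bA.constr A fun i => sec (bA i)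
  have hu : π ∘ₗ u = LinearMap.id := bA.ext fun i => by simp [u, hsec]
  have hu' : ∀ z, π (u z) = z := fun z => LinearMap.congr_fun hu z
  have hinj : ∀ x, π x = 0 → x = 0 := by
    intro x hx
    have : ∀ (n : ℕ) i, x i ∈ augJ B ^ n := by
      intro n
      induction n with
      | zero => simp
      | succ n ih =>
        intro j
        have hxe : x = x.sum fun i r => r • (Finsupp.single i 1 - u (w i)) := by
          have hπ : (x.sum fun i r => r • u (w i)) = u (π x) := by
            simp only [π, Finsupp.linearCombination_apply, map_finsuppSum, map_smul]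
          simp only [smul_sub, Finsupp.sum_sub, hπ, hx, map_zero, sub_zero, Finsupp.smul_single,
            smul_eq_mul, mul_one, Finsupp.sum_single]
        rw [hxe, Finsupp.sum_apply]
        refine Submodule.sum_mem _ fun i _ => ?_
        show x i * (Finsupp.single i (1 : A) - u (w i)) j ∈ _
        rw [pow_succ]
        exact Ideal.mul_mem_mul (ih i) (hker _ (by simp [π, hu']) j)
    obtain ⟨n, hn⟩ := hn
    have hJ : augJ B ^ n = ⊥ := by rw [← map_augB, ← Ideal.map_pow, hn]; exact Ideal.map_bot
    ext i
    have := this n i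
    rw [hJ, Ideal.mem_bot] at this
    rw [this, Finsupp.zero_apply]
  -- independence
  have hli : LinearIndependent B v := by
    rw [linearIndependent_iff]
    intro l hl
    let l' : _ →₀ A := Finsupp.mapRange (Subtype.val : B → A) rfl l
    have h1 : π l' = Φ ((1 : A) ⊗ₜ[B] Finsupp.linearCombination B v l) := by
      simp only [π, l', Finsupp.linearCombination_apply]
      rw [Finsupp.sum_mapRange_index (by simp)]
      simp only [Finsupp.sum, TensorProduct.tmul_sum, map_sum, hsm, map_smul, w]
    rw [hl, TensorProduct.tmul_zero, map_zero] at h1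
    ext i
    exact congrArg (fun f : _ →₀ A => f i) (hinj _ h1)
  exact Module.Free.of_basis (Module.Basis.mk hli hS)

end Groth.Agent.HopfFlat
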