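import Groth.Agent.Lib.HopfFlat20.Galois
import Mathlib.FieldTheory.IsAlgClosed.Basic
import Mathlib.RingTheory.FiniteType
import Mathlib.RingTheory.Bialgebra.Hom
import Mathlib.Algebra.CharP.Lemmas
import Mathlib.Algebra.CharP.Algebra

/-!
# The sub Hopf algebra of `q`-th powers
-/

universe u

open TensorProduct Coalgebra HopfAlgebra

namespace Groth.Agent.HopfFlat

variable (k : Type u) [Field k] [IsAlgClosed k] (p : ℕ) [Fact p.Prime] [CharP k p] (B : Type u) [CommRing B]
  [HopfAlgebra k B] (r : ℕ)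

theorem charP_of_bialgebra (C : Type u) [CommRing C] [Algebra k C] [Nontrivial C] : CharP C p :=
  charP_of_injective_algebraMap (algebraMap k C).injective p

/-- The subalgebra of `p^r`-th powers. -/
noncomputable def powAlg : Subalgebra k B :=
  haveI : Nontrivial B := Bialgebra.nontrivial k
  haveI := charP_of_bialgebra k p B
  { carrier := Set.range fun b : B => b ^ p ^ r
    mul_mem' := by rintro _ _ ⟨x, rfl⟩ ⟨y, rfl⟩; exact ⟨x * y, mul_pow x y _⟩
    one_mem' := ⟨1, one_pow _⟩
    add_mem' := by rintro _ _ ⟨x, rfl⟩ ⟨y, rfl⟩; exact ⟨x + y, add_pow_char_pow x y p r⟩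
    zero_mem' := ⟨0, zero_pow (pow_ne_zero r (Fact.out : p.Prime).ne_zero)⟩
    algebraMap_mem' := fun c => by
      obtain ⟨d, hd⟩ := IsAlgClosed.exists_pow_nat_eq c (pow_pos (Fact.out : p.Prime).pos r)
      exact ⟨algebraMap k B d, by simp only; rw [← map_pow, hd]⟩ }

variable {k p B r}

theorem mem_powAlg {b : B} : b ∈ powAlg k p B r ↔ ∃ x, x ^ p ^ r = b := Iff.rfl

theorem pow_mem_powAlg (b : B) : b ^ p ^ r ∈ powAlg k p B r := ⟨b, rfl⟩

theorem isSub_powAlg : IsSub (powAlg k p B r) := by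
  haveI : Nontrivial (B ⊗[k] B) := Bialgebra.nontrivial k
  haveI := charP_of_bialgebra k p (B ⊗[k] B)
  constructor
  · rintro _ ⟨x, rfl⟩
    show Bialgebra.comulAlgHom k B (x ^ p ^ r) ∈ _
    rw [map_pow]
    generalize Bialgebra.comulAlgHom k B x = z
    induction z using TensorProduct.induction_on with
    | zero => rw [zero_pow (pow_ne_zero r (Fact.out : p.Prime).ne_zero)]; exact zero_mem _
    | add a b ha hb => rw [add_pow_char_pow _ _ p r]; exact add_mem ha hb
    | tmul a b =>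
      rw [Algebra.TensorProduct.tmul_pow]
      exact ⟨⟨_, pow_mem_powAlg a⟩ ⊗ₜ ⟨_, pow_mem_powAlg b⟩, rfl⟩
  · rintro _ ⟨x, rfl⟩
    exact ⟨antipode k x, (map_pow (antipodeAlgHom k B) x _).symm⟩

theorem fg_powAlg [Algebra.FiniteType k B] : Algebra.FiniteType k (powAlg k p B r) := by
  classical
  haveI : Nontrivial B := Bialgebra.nontrivial k
  haveI := charP_of_bialgebra k p B
  refine (Subalgebra.fg_iff_finiteType _).1 ?_
  obtain ⟨s, hs⟩ := Algebra.FiniteType.out (R := k) (A := B)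
  refine ⟨s.image fun b => b ^ p ^ r, le_antisymm (Algebra.adjoin_le ?_) ?_⟩
  · intro b hb
    obtain ⟨x, -, rfl⟩ := Finset.mem_image.1 (Finset.mem_coe.1 hb)
    exact pow_mem_powAlg x
  · rintro _ ⟨x, rfl⟩
    have hx : x ∈ Algebra.adjoin k (s : Set B) := by rw [hs]; exact Algebra.mem_top
    show x ^ p ^ r ∈ _
    induction hx using Algebra.adjoin_induction with
    | mem x hx => exact Algebra.subset_adjoin (Finset.mem_coe.2 (Finset.mem_image_of_mem _ hx))
    | algebraMap c => rw [← map_pow]; exact Subalgebra.algebraMap_mem _ _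
    | add x y _ _ hx hy => rw [add_pow_char_pow _ _ p r]; exact add_mem hx hy
    | mul x y _ _ hx hy => rw [mul_pow]; exact mul_mem hx hy

/-- The sub Hopf algebra of powers as a Hopf algebra. -/
theorem exists_hopf_powAlg [Algebra.FiniteType k B] :
    ∃ (B' : Type u) (_ : CommRing B') (_ : HopfAlgebra k B') (ι : B' →ₐc[k] B),
      Algebra.FiniteType k B' ∧ Function.Injective ι ∧ ∀ b, b ∈ powAlg k p B r ↔ ∃ x, ι x = b := by
  obtain ⟨B', _, _, e, he, hΔ⟩ :=
    FinGrp.exists_hopf_sub (powAlg k p B r) isSub_powAlg.comul_mem isSub_powAlg.antipode_mem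
  refine ⟨B', inferInstance, inferInstance,
    BialgHom.ofAlgHom ((powAlg k p B r).val.comp e.toAlgHom) (AlgHom.ext fun b => (he b).symm)
      (AlgHom.ext fun b => hΔ b), ?_, ?_, fun b => ?_⟩
  · haveI := fg_powAlg (k := k) (p := p) (B := B) (r := r)
    exact Algebra.FiniteType.equiv inferInstance e.symm
  · exact fun x y h => e.injective (Subtype.ext h)
  · exact ⟨fun hb => ⟨e.symm ⟨b, hb⟩, by exact congrArg Subtype.val (e.apply_symm_apply ⟨b, hb⟩)⟩,
      fun ⟨x, hx⟩ => hx ▸ (e x).2⟩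

end Groth.Agent.HopfFlat
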