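import Groth.Agent.Lib.HopfFlat20.Points
import Groth.Agent.Lib.HopfFlat20.Artin
import Groth.Agent.Lib.HopfFlat20.Frob
import Groth.Agent.Lib.HopfRedH28.Basic
import Groth.Agent.Lib.WEtaleH7.Misc
import Groth.Agent.Lib.MultType.Image
import Mathlib.RingTheory.Flat.Tensor
import Mathlib.RingTheory.FiniteType

/-!
# Faithful flatness over Hopf subalgebras: algebraically closed field
-/

universe u

open TensorProduct Coalgebra HopfAlgebra

namespace Groth.Agent.HopfFlat

section General

variable {k : Type u} [Field k]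

/-- The image of a bialgebra map is a sub Hopf algebra. -/
theorem isSub_range {C D : Type u} [CommRing C] [CommRing D] [HopfAlgebra k C] [HopfAlgebra k D]
    (f : C →ₐc[k] D) : IsSub (f : C →ₐ[k] D).range := by
  constructor
  · rintro _ ⟨x, rfl⟩
    refine ⟨TensorProduct.map ((f : C →ₐ[k] D).rangeRestrict).toLinearMap
      ((f : C →ₐ[k] D).rangeRestrict).toLinearMap (comul (R := k) x), ?_⟩
    rw [← LinearMap.comp_apply, ← TensorProduct.map_comp]
    exact CoalgHomClass.map_comp_comul_apply f x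
  · rintro _ ⟨x, rfl⟩
    exact ⟨antipode k x, MultTypeLib.bialgHom_map_antipode f x⟩

theorem IsSub.map {C D : Type u} [CommRing C] [CommRing D] [HopfAlgebra k C] [HopfAlgebra k D]
    {P : Subalgebra k C} (hP : IsSub P) (f : C →ₐc[k] D) : IsSub (P.map (f : C →ₐ[k] D)) := by
  constructor
  · rintro _ ⟨x, hx, rfl⟩
    obtain ⟨w, hw⟩ := hP.comul_mem x hx
    let r : P →ₗ[k] P.map (f : C →ₐ[k] D) :=
      (((f : C →ₐ[k] D).comp P.val).codRestrict (P.map (f : C →ₐ[k] D)) fun y => ⟨y, y.2, rfl⟩).toLinearMap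
    refine ⟨TensorProduct.map r r w, ?_⟩
    refine Eq.trans ?_ (CoalgHomClass.map_comp_comul_apply f x)
    rw [← hw]
    clear hw
    induction w using TensorProduct.induction_on with
    | zero => simp
    | add a b ha hb => simp only [map_add, ha, hb]
    | tmul a b => rfl
  · rintro _ ⟨x, hx, rfl⟩
    exact ⟨antipode k x, hP.antipode_mem x hx, MultTypeLib.bialgHom_map_antipode f x⟩

variable {A B : Type u} [CommRing A] [HopfAlgebra k A] [CommRing B] [HopfAlgebra k B]

/-- `A ⊗_P B → A ⊗_{f P} A` is injective if `f` is injective and `A` is flat over `f P`. -/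
theorem exists_galois_map (P : Subalgebra k B) (f : B →ₐc[k] A) (hinj : Function.Injective f)
    [Algebra P A] (hPA : ∀ x : P, algebraMap P A x = f x)
    [Module.Flat (P.map (f : B →ₐ[k] A)) A] :
    ∃ Θ : A ⊗[P] B →ₐ[A] A ⊗[P.map (f : B →ₐ[k] A)] A, Function.Injective Θ ∧
      ∀ b, Θ ((1 : A) ⊗ₜ[P] b) = (1 : A) ⊗ₜ f b := by
  let PA := P.map (f : B →ₐ[k] A)
  have hflat : Module.Flat P A := by
    let e : P ≃+* PA := (Subalgebra.equivMapOfInjective P (f : B →ₐ[k] A) hinj).toRingEquiv
    rw [← RingHom.flat_algebraMap_iff]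
    have : algebraMap P A = (algebraMap PA A).comp e.toRingHom := RingHom.ext fun x => by
      rw [hPA]
      rfl
    rw [this]
    exact (RingHom.Flat.of_bijective e.bijective).comp (RingHom.flat_algebraMap_iff.2 inferInstance)
  haveI := hflat
  have mem : ∀ x : P, f x ∈ PA := fun x => ⟨x, x.2, rfl⟩
  let i : A →ₐ[PA] A ⊗[PA] A := Algebra.TensorProduct.includeRight
  let r : A →ₐ[P] A ⊗[PA] A :=
    { i.toRingHom with
      commutes' := fun x => by
        show (1 : A) ⊗ₜ[PA] algebraMap P A x = algebraMap P A x ⊗ₜ[PA] (1 : A)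
        rw [hPA, show f x = (⟨f x, mem x⟩ : PA) • (1 : A) by simp [Subalgebra.smul_def],
          TensorProduct.smul_tmul] }
  let can : A ⊗[P] A →ₐ[A] A ⊗[PA] A :=
    Algebra.TensorProduct.lift (Algebra.ofId A _) r fun _ _ => Commute.all _ _
  let i' : A →ₐ[P] A ⊗[P] A := Algebra.TensorProduct.includeRight
  let r' : A →ₐ[PA] A ⊗[P] A :=
    { i'.toRingHom with
      commutes' := fun x => by
        obtain ⟨y, hy, hxy⟩ := x.2
        have hx : (x : A) = algebraMap P A ⟨y, hy⟩ := (hxy.symm.trans (hPA ⟨y, hy⟩).symm)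
        show (1 : A) ⊗ₜ[P] (x : A) = (x : A) ⊗ₜ[P] (1 : A)
        rw [hx, Algebra.algebraMap_eq_smul_one, TensorProduct.smul_tmul] }
  let canInv : A ⊗[PA] A →ₐ[A] A ⊗[P] A :=
    Algebra.TensorProduct.lift (Algebra.ofId A _) r' fun _ _ => Commute.all _ _
  have hcan1 : ∀ a : A, can ((1 : A) ⊗ₜ[P] a) = (1 : A) ⊗ₜ[PA] a := fun a => by
    simp only [can, Algebra.TensorProduct.lift_tmul, map_one, one_mul]
    rfl
  have hcanInv1 : ∀ a : A, canInv ((1 : A) ⊗ₜ[PA] a) = (1 : A) ⊗ₜ[P] a := fun a => by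
    simp only [canInv, Algebra.TensorProduct.lift_tmul, map_one, one_mul]
    rfl
  have hcan : canInv.comp can = AlgHom.id A _ :=
    Algebra.TensorProduct.ext (by ext) (AlgHom.ext fun a => (congrArg canInv (hcan1 a)).trans (hcanInv1 a))
  let fB : B →ₐ[P] A :=
    { (f : B →ₐ[k] A).toRingHom with commutes' := fun x => (hPA x).symm }
  let F : A ⊗[P] B →ₐ[A] A ⊗[P] A := Algebra.TensorProduct.map (AlgHom.id A A) fB
  have hFinj : Function.Injective F :=
    Module.Flat.lTensor_preserves_injective_linearMap (M := A) fB.toLinearMap hinj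
  refine ⟨can.comp F, ?_, fun b => (congrArg can (show F ((1 : A) ⊗ₜ[P] b) = (1 : A) ⊗ₜ[P] f b from rfl)).trans (hcan1 (f b))⟩
  exact (Function.LeftInverse.injective (g := canInv) (AlgHom.congr_fun hcan)).comp hFinj

/-- The quotient is free over the image of a source whose powers lie in the base. -/
theorem free_range_quot (P : Subalgebra k B) (hP : IsSub P) (f : B →ₐc[k] A) [IsNoetherianRing B] (q : ℕ)
    (hq : q ≠ 0) (hpow : ∀ b : B, b ^ q ∈ P) :
    Module.Free ((Ideal.Quotient.mkₐ k (augJ (P.map (f : B →ₐ[k] A)))).comp (f : B →ₐ[k] A)).range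
      (A ⧸ augJ (P.map (f : B →ₐ[k] A))) := by
  haveI := (hP.map f).isHopfIdeal
  let PA := P.map (f : B →ₐ[k] A)
  let j : B →ₐ[k] A ⧸ augJ PA := (Ideal.Quotient.mkₐ k (augJ PA)).comp (f : B →ₐ[k] A)
  have hBb : IsSub j.range := isSub_range ((Bialgebra.Quotient.mkBialgHom (augJ PA)).comp f)
  refine hBb.free_of_isNilpotent ?_
  haveI : IsNoetherianRing j.range := isNoetherianRing_of_surjective B j.range j.rangeRestrict.toRingHom
    j.rangeRestrict_surjective
  have hle : augB j.range ≤ nilradical j.range := by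
    rintro ⟨_, b, rfl⟩ hb
    have h0 : counit (R := k) (f b) = 0 := hb
    refine mem_nilradical.2 ⟨q, Subtype.ext ?_⟩
    show j b ^ q = 0
    rw [← map_pow]
    refine Ideal.Quotient.eq_zero_iff_mem.2 (Ideal.subset_span ⟨⟨_, hpow b, rfl⟩, ?_⟩)
    show Bialgebra.counitAlgHom k A (f (b ^ q)) = 0
    rw [map_pow, map_pow]
    show counit (R := k) (f b) ^ q = 0
    rw [h0, zero_pow hq]
  obtain ⟨n, hn⟩ := IsNoetherianRing.isNilpotent_nilradical j.range
  exact ⟨n, le_bot_iff.1 ((Ideal.pow_right_mono hle n).trans hn.le)⟩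

set_option maxHeartbeats 1000000 in
/-- Flatness from the faithful flatness over the sub Hopf algebra of powers. -/
theorem flat_of_pow (P : Subalgebra k B) (hP : IsSub P) (f : B →ₐc[k] A) (hinj : Function.Injective f)
    [IsNoetherianRing B] (q : ℕ) (hq : q ≠ 0) (hpow : ∀ b : B, b ^ q ∈ P)
    [Module.FaithfullyFlat (P.map (f : B →ₐ[k] A)) A] : (f : B →+* A).Flat := by
  classical
  let PA := P.map (f : B →ₐ[k] A)
  have hPA : IsSub PA := hP.map f
  let fP : P →ₐ[k] A := (f : B →ₐ[k] A).comp P.val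
  letI algP : Algebra P A := fP.toRingHom.toAlgebra
  haveI : IsScalarTower k P A := IsScalarTower.of_algebraMap_eq fun c => (fP.commutes c).symm
  obtain ⟨Θ, hΘinj, hΘ⟩ := exists_galois_map P f hinj (fun _ => rfl)
  obtain ⟨e₁, he₁⟩ := hP.exists_galois (R := A) (f : B →ₐ[k] A) (fun _ => rfl)
  obtain ⟨e₂, he₂⟩ := hPA.exists_galois (R := A) (AlgHom.id k A) (fun _ => rfl)
  let j : B →ₐ[k] A ⧸ augJ PA := (Ideal.Quotient.mkₐ k (augJ PA)).comp (f : B →ₐ[k] A)
  let jbar : B ⧸ augJ P →ₐ[k] j.range := Ideal.Quotient.liftₐ _ j.rangeRestrict fun x hx => by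
    refine (Ideal.span_le (I := RingHom.ker j.rangeRestrict)).2 (fun b hb => ?_) hx
    refine Subtype.ext ?_
    refine Ideal.Quotient.eq_zero_iff_mem.2 (Ideal.subset_span ⟨⟨b, hb.1, rfl⟩, ?_⟩)
    exact (CoalgHomClass.counit_comp_apply f b).trans hb.2
  have hjbar : ∀ b, jbar (Ideal.Quotient.mk _ b) = j.rangeRestrict b := fun b =>
    Ideal.Quotient.liftₐ_apply _ _ _ _
  haveI : Module.Free j.range (A ⧸ augJ PA) := free_range_quot P hP f q hq hpow
  have hjv : (j.range.val : j.range →ₐ[k] A ⧸ augJ PA).Flat :=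
    RingHom.flat_algebraMap_iff.2 (inferInstanceAs (Module.Flat j.range (A ⧸ augJ PA)))
  let g := Algebra.TensorProduct.map (AlgHom.id A A) jbar
  let h := Algebra.TensorProduct.map (AlgHom.id A A) j.range.val
  have key : ∀ b : B, (h.comp g) (e₁ ((1 : A) ⊗ₜ[P] b)) = e₂ ((1 : A) ⊗ₜ[PA] f b) := by
    intro b
    rw [he₁, he₂, ← CoalgHomClass.map_comp_comul_apply f b]
    induction comul (R := k) b using TensorProduct.induction_on with
    | zero => simp
    | add x y hx hy => simp only [map_add, hx, hy]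
    | tmul x y =>
      show f x ⊗ₜ[k] ((jbar (Ideal.Quotient.mk _ y) : j.range) : A ⧸ augJ PA) = _
      rw [hjbar]
      rfl
  have hgbij : Function.Bijective g := by
    refine ⟨Function.Injective.of_comp (f := h) ?_, ?_⟩
    · intro x y hxy
      have hsq : ∀ z, (h.comp g) (e₁ z) = e₂ (Θ z) := by
        intro z
        induction z using TensorProduct.induction_on with
        | zero => simp
        | add x y hx hy => simp only [map_add, hx, hy]
        | tmul a b =>
          have : a ⊗ₜ[P] b = a • ((1 : A) ⊗ₜ[P] b) := by simp [TensorProduct.smul_tmul']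
          rw [this, map_smul, map_smul, key, map_smul, map_smul, hΘ]
      obtain ⟨x, rfl⟩ := e₁.surjective x
      obtain ⟨y, rfl⟩ := e₁.surjective y
      have h' : h (g (e₁ x)) = h (g (e₁ y)) := hxy
      rw [← AlgHom.comp_apply, ← AlgHom.comp_apply, hsq, hsq] at h'
      have h'' : x = y := hΘinj (e₂.injective h')
      rw [h'']
    · intro z
      induction z using TensorProduct.induction_on with
      | zero => exact ⟨0, map_zero g⟩
      | add x y hx hy =>
        obtain ⟨x', rfl⟩ := hx
        obtain ⟨y', rfl⟩ := hy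
        exact ⟨x' + y', map_add g x' y'⟩
      | tmul a c =>
        obtain ⟨_, b, rfl⟩ := c
        refine ⟨a ⊗ₜ[k] Ideal.Quotient.mk _ b, ?_⟩
        show Algebra.TensorProduct.map (AlgHom.id A A) jbar _ = _
        rw [Algebra.TensorProduct.map_tmul, hjbar]
        rfl
  haveI hPflat : Module.Flat P A := by
    let e : P ≃+* PA := (Subalgebra.equivMapOfInjective P (f : B →ₐ[k] A) hinj).toRingEquiv
    rw [← RingHom.flat_algebraMap_iff]
    have : algebraMap P A = (algebraMap PA A).comp e.toRingHom := RingHom.ext fun x => rfl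
    rw [this]
    exact (RingHom.Flat.of_bijective e.bijective).comp (RingHom.flat_algebraMap_iff.2 inferInstance)
  have h1 : ((Algebra.TensorProduct.includeRight : B →ₐ[P] A ⊗[P] B).toRingHom).Flat := by
    letI := Algebra.TensorProduct.rightAlgebra (R := P) (A := A) (B := B)
    haveI : Module.Flat B (A ⊗[P] B) := Module.Flat.of_linearEquiv
      (Algebra.TensorProduct.commRight P B A).symm.toLinearEquiv
    exact RingHom.flat_algebraMap_iff.2 inferInstance
  have h2 : (h.comp g).Flat :=
    (RingHom.Flat.of_bijective hgbij).comp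
      (RingHom.Flat.tensorProductMap (f := AlgHom.id A A) (RingHom.Flat.id A) hjv)
  have h3 := (h1.comp (RingHom.Flat.of_bijective (f := (e₁.toAlgHom : _ →+* _)) e₁.bijective)).comp h2
  let inc := e₂.toAlgHom.toRingHom.comp (Algebra.TensorProduct.includeRight : A →ₐ[PA] A ⊗[PA] A).toRingHom
  have hff : inc.FaithfullyFlat := by
    refine RingHom.FaithfullyFlat.stableUnderComposition _ _ ?_ (.of_bijective e₂.bijective)
    have hc : (Algebra.TensorProduct.includeRight : A →ₐ[PA] A ⊗[PA] A).toRingHom =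
        (Algebra.TensorProduct.comm PA A A).toAlgHom.toRingHom.comp (algebraMap A (A ⊗[PA] A)) :=
      RingHom.ext fun a => rfl
    rw [hc]
    exact RingHom.FaithfullyFlat.stableUnderComposition _ _
      (RingHom.faithfullyFlat_algebraMap_iff.2 inferInstance)
      (.of_bijective (Algebra.TensorProduct.comm PA A A).bijective)
  refine WEtaleH7.flat_of_comp_faithfullyFlat _ inc hff ?_
  refine (congrArg RingHom.Flat ?_).mp h3
  exact RingHom.ext fun b => key b

end General

variable {k : Type u} [Field k] [IsAlgClosed k] {A B : Type u} [CommRing A] [HopfAlgebra k A]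
  [Algebra.FiniteType k A] [CommRing B] [HopfAlgebra k B] [Algebra.FiniteType k B]

/-- Faithful flatness of an injective map of affine algebraic groups, in characteristic `p`. -/
theorem faithfullyFlat_of_charP (p : ℕ) [Fact p.Prime] [CharP k p] (f : B →ₐc[k] A)
    (hinj : Function.Injective f) : (f : B →+* A).FaithfullyFlat := by
  classical
  haveI : IsNoetherianRing B := Algebra.FiniteType.isNoetherianRing k B
  obtain ⟨m, hm⟩ := IsNoetherianRing.isNilpotent_nilradical B
  have hq : ∀ b : B, IsNilpotent b → b ^ p ^ m = 0 := by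
    intro b hb
    have h1 : b ^ m = 0 := by
      have := Ideal.pow_mem_pow (mem_nilradical.2 hb) m
      rwa [hm, Ideal.zero_eq_bot, Ideal.mem_bot] at this
    exact pow_eq_zero_of_le (Nat.lt_pow_self (Fact.out : p.Prime).one_lt).le h1
  obtain ⟨B', _, _, ι, hft, hι, hmem⟩ := exists_hopf_powAlg (k := k) (p := p) (B := B) (r := m)
  haveI := hft
  haveI : _root_.IsReduced B' := ⟨fun x hx => hι <| by
    obtain ⟨b, hb⟩ := mem_powAlg.1 ((hmem (ι x)).2 ⟨x, rfl⟩)
    rw [map_zero, ← hb]
    refine hq b ?_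
    obtain ⟨n, hn⟩ := hx
    exact ⟨p ^ m * n, by rw [pow_mul, hb, ← map_pow, hn, map_zero]⟩⟩
  let fι : B' →ₐ[k] A := (f : B →ₐ[k] A).comp (ι : B' →ₐ[k] B)
  letI : Algebra B' A := fι.toRingHom.toAlgebra
  haveI : IsScalarTower k B' A := IsScalarTower.of_algebraMap_eq fun c => (fι.commutes c).symm
  haveI hA' : Module.FaithfullyFlat B' A :=
    faithfullyFlat_of_isReduced (f.comp ι) (fun _ => rfl) (hinj.comp hι)
  let P : Subalgebra k B := powAlg k p B m
  have hne : p ^ m ≠ 0 := pow_ne_zero m (Fact.out : p.Prime).ne_zero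
  haveI : Module.FaithfullyFlat (P.map (f : B →ₐ[k] A)) A := by
    let PA := P.map (f : B →ₐ[k] A)
    let φ : B' →+* PA := fι.toRingHom.codRestrict PA fun x => ⟨ι x, (hmem _).2 ⟨x, rfl⟩, rfl⟩
    have hφ : Function.Bijective φ := by
      refine ⟨fun x y h => hι (hinj (congrArg Subtype.val h)), ?_⟩
      rintro ⟨_, b, hb, rfl⟩
      obtain ⟨x, rfl⟩ := (hmem b).1 hb
      exact ⟨x, rfl⟩
    let e := RingEquiv.ofBijective φ hφ
    rw [← RingHom.faithfullyFlat_algebraMap_iff]
    have : algebraMap PA A = (algebraMap B' A).comp e.symm.toRingHom := RingHom.ext fun x => by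
      obtain ⟨y, rfl⟩ := e.surjective x
      show _ = fι (e.symm (e y))
      rw [e.symm_apply_apply]
      rfl
    rw [this]
    exact RingHom.FaithfullyFlat.stableUnderComposition _ _ (.of_bijective e.symm.bijective)
      (RingHom.faithfullyFlat_algebraMap_iff.2 hA')
  rw [RingHom.FaithfullyFlat.iff_flat_and_comap_surjective]
  refine ⟨flat_of_pow P isSub_powAlg f hinj _ hne pow_mem_powAlg, fun Q => ?_⟩
  obtain ⟨R, hR⟩ := PrimeSpectrum.comap_surjective_of_faithfullyFlat (A := B') (B := A)
    (PrimeSpectrum.comap (ι : B' →+* B) Q)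
  refine ⟨R, PrimeSpectrum.ext (Ideal.ext fun b => ?_)⟩
  obtain ⟨y, hy⟩ := (hmem _).1 (pow_mem_powAlg (k := k) (p := p) (r := m) b)
  have h := congrArg (fun I => y ∈ I.asIdeal) hR
  show f b ∈ R.asIdeal ↔ b ∈ Q.asIdeal
  rw [← R.2.pow_mem_iff_mem _ (Nat.pos_of_ne_zero hne), ← Q.2.pow_mem_iff_mem _ (Nat.pos_of_ne_zero hne),
    ← map_pow, ← hy]
  exact Iff.of_eq h

/-- An injective map of affine algebraic groups over an algebraically closed field is faithfully flat. -/
theorem faithfullyFlat_of_isAlgClosed (f : B →ₐc[k] A) (hinj : Function.Injective f) :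
    (f : B →+* A).FaithfullyFlat := by
  obtain ⟨p, hp⟩ := CharP.exists k
  rcases CharP.char_is_prime_or_zero k p with hpp | rfl
  · haveI : Fact p.Prime := ⟨hpp⟩
    exact faithfullyFlat_of_charP p f hinj
  · haveI := CharP.charP_to_charZero k
    haveI := HopfRedH28.isReduced_of_charZero k B
    letI : Algebra B A := (f : B →+* A).toAlgebra
    haveI : IsScalarTower k B A :=
      IsScalarTower.of_algebraMap_eq fun c => ((f : B →ₐ[k] A).commutes c).symm
    exact faithfullyFlat_of_isReduced f (fun _ => rfl) hinj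

end Groth.Agent.HopfFlat
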