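import Groth.Agent.Lib.FinGrp20.Basic

/-!
# The Galois isomorphism of a Hopf subalgebra
-/

universe u

open TensorProduct Coalgebra HopfAlgebra WithConv

namespace Groth.Agent.HopfFlat

variable {k : Type u} [Field k] {C : Type u} [CommRing C] [HopfAlgebra k C] (B : Subalgebra k C)

/-- The ideal of the kernel of `C → B`. -/
abbrev augJ : Ideal C := Ideal.span {a : C | a ∈ B ∧ counit (R := k) a = 0}

theorem mk_eq_counit {b : C} (hb : b ∈ B) :
    Ideal.Quotient.mkₐ k (augJ B) b = algebraMap k (C ⧸ augJ B) (counit (R := k) b) := by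
  rw [← (Ideal.Quotient.mkₐ k (augJ B)).commutes]
  refine Ideal.Quotient.eq.2 (Ideal.subset_span ⟨B.sub_mem hb (B.algebraMap_mem _), ?_⟩)
  simp

/-- A subalgebra closed under comultiplication and antipode. -/
structure IsSub : Prop where
  comul_mem : ∀ b ∈ B, comul (R := k) b ∈
    LinearMap.range (TensorProduct.map B.val.toLinearMap B.val.toLinearMap)
  antipode_mem : ∀ b ∈ B, antipode k b ∈ B

variable {B}

theorem IsSub.map_id_mk (hB : IsSub B) {R : Type u} [CommRing R] [Algebra k R] (f : C →ₐ[k] R) {b : C}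
    (hb : b ∈ B) :
    Algebra.TensorProduct.map f (Ideal.Quotient.mkₐ k (augJ B)) (Coalgebra.comul (R := k) b) =
      f b ⊗ₜ[k] (1 : C ⧸ augJ B) := by
  obtain ⟨w, hw⟩ := hB.comul_mem b hb
  have key : ∀ u : B ⊗[k] B, Algebra.TensorProduct.map f (Ideal.Quotient.mkₐ k (augJ B))
      (TensorProduct.map B.val.toLinearMap B.val.toLinearMap u) =
      f (TensorProduct.rid k C ((counit (R := k)).lTensor C
        (TensorProduct.map B.val.toLinearMap B.val.toLinearMap u))) ⊗ₜ[k] (1 : C ⧸ augJ B) := by
    intro u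
    induction u using TensorProduct.induction_on with
    | zero => simp
    | add x y hx hy => simp only [map_add, TensorProduct.add_tmul, hx, hy]
    | tmul x y =>
      simp only [TensorProduct.map_tmul, AlgHom.toLinearMap_apply, Subalgebra.coe_val,
        Algebra.TensorProduct.map_tmul, mk_eq_counit B y.2, LinearMap.lTensor_tmul,
        TensorProduct.rid_tmul, map_smul]
      rw [Algebra.algebraMap_eq_smul_one, TensorProduct.tmul_smul, TensorProduct.smul_tmul']
  rw [← hw, key, hw, lTensor_counit_comul]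
  simp

theorem IsSub.isHopfIdeal (hB : IsSub B) : (augJ B).IsHopfIdeal k :=
  FinGrp.isHopfIdeal_span_aug B hB.comul_mem hB.antipode_mem

variable {R : Type u} [CommRing R] [Algebra k R] [Algebra B R] [IsScalarTower k B R]

set_option maxHeartbeats 1000000 in
/-- The Galois isomorphism `R ⊗_B C ≅ R ⊗_k (C / B⁺C)`. -/
theorem IsSub.exists_galois (hB : IsSub B) (f : C →ₐ[k] R) (hf : ∀ b : B, algebraMap B R b = f b) :
    ∃ e : R ⊗[B] C ≃ₐ[R] R ⊗[k] (C ⧸ augJ B), ∀ c : C,
      e ((1 : R) ⊗ₜ[B] c) = Algebra.TensorProduct.map f (Ideal.Quotient.mkₐ k (augJ B)) (Coalgebra.comul (R := k) c) := by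
  classical
  let q := Ideal.Quotient.mkₐ k (augJ B)
  let iR : R →ₐ[k] R ⊗[B] C := Algebra.TensorProduct.includeLeft
  let iC : C →ₐ[k] R ⊗[B] C :=
    (Algebra.TensorProduct.includeRight : C →ₐ[B] R ⊗[B] C).restrictScalars k
  let jR : R →ₐ[k] R ⊗[k] (C ⧸ augJ B) := Algebra.TensorProduct.includeLeft
  let jQ : C ⧸ augJ B →ₐ[k] R ⊗[k] (C ⧸ augJ B) := Algebra.TensorProduct.includeRight
  let g : C →ₐ[k] R ⊗[k] (C ⧸ augJ B) := (toConv (jR.comp f) * toConv (jQ.comp q)).ofConv
  have hg : ∀ c, g c = Algebra.TensorProduct.map f q (Coalgebra.comul (R := k) c) := fun c => by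
    show (toConv (jR.comp f) * toConv (jQ.comp q)).ofConv c = _
    rw [AlgHom.convMul_apply]
    induction Coalgebra.comul (R := k) c using TensorProduct.induction_on with
    | zero => simp
    | add x y hx hy => simp only [map_add, hx, hy]
    | tmul x y => simp [jR, jQ, q]
  have hgB : ∀ b : B, g b = algebraMap B (R ⊗[k] (C ⧸ augJ B)) b := fun b => by
    rw [hg, hB.map_id_mk f b.2, ← hf]
    rfl
  let g' : C →ₐ[B] R ⊗[k] (C ⧸ augJ B) := { g with commutes' := hgB }
  let Ψ : R ⊗[B] C →ₐ[R] R ⊗[k] (C ⧸ augJ B) :=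
    Algebra.TensorProduct.lift (Algebra.ofId R _) g' (fun _ _ => Commute.all _ _)
  let S := antipodeAlgHom k C
  let h : C →ₐ[k] R ⊗[B] C := (toConv (iR.comp (f.comp S)) * toConv iC).ofConv
  have hinv : toConv (f.comp S) * toConv f = 1 := by
    apply ofConv_injective
    have : toConv S * toConv (AlgHom.id k C) = 1 := by
      apply ofConv_injective
      refine AlgHom.ext fun c => ?_
      rw [AlgHom.convMul_apply, AlgHom.convOne_apply]
      have e : ∀ z : C ⊗[k] C, Algebra.TensorProduct.lift S (AlgHom.id k C) (fun _ _ => Commute.all _ _) z =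
          LinearMap.mul' k C ((antipode k).rTensor C z) := by
        intro z
        induction z using TensorProduct.induction_on with
        | zero => simp
        | add x y hx hy => simp only [map_add, hx, hy]
        | tmul x y => simp [S]
      show Algebra.TensorProduct.lift S (AlgHom.id k C) (fun _ _ => Commute.all _ _) _ = _
      rw [e, mul_antipode_rTensor_comul_apply]
    have h2 := AlgHom.comp_convMul_distrib f (toConv S) (toConv (AlgHom.id k C))
    rw [this] at h2
    simp only [ofConv_toConv, AlgHom.comp_id] at h2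
    rw [← h2]
    exact AlgHom.ext fun c => by simp
  have hinv' : toConv f * toConv (f.comp S) = 1 := by
    apply ofConv_injective
    have : toConv (AlgHom.id k C) * toConv S = 1 := by
      apply ofConv_injective
      refine AlgHom.ext fun c => ?_
      rw [AlgHom.convMul_apply, AlgHom.convOne_apply]
      have e : ∀ z : C ⊗[k] C, Algebra.TensorProduct.lift (AlgHom.id k C) S (fun _ _ => Commute.all _ _) z =
          LinearMap.mul' k C ((antipode k).lTensor C z) := by
        intro z
        induction z using TensorProduct.induction_on with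
        | zero => simp
        | add x y hx hy => simp only [map_add, hx, hy]
        | tmul x y => simp [S]
      show Algebra.TensorProduct.lift (AlgHom.id k C) S (fun _ _ => Commute.all _ _) _ = _
      rw [e, mul_antipode_lTensor_comul_apply]
    have h2 := AlgHom.comp_convMul_distrib f (toConv (AlgHom.id k C)) (toConv S)
    rw [this] at h2
    simp only [ofConv_toConv, AlgHom.comp_id] at h2
    rw [← h2]
    exact AlgHom.ext fun c => by simp
  have push : ∀ {X : Type u} [CommRing X] [Algebra k X] (φ : R →ₐ[k] X) (a b : WithConv (C →ₐ[k] R)),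
      toConv (φ.comp a.ofConv) * toConv (φ.comp b.ofConv) = toConv (φ.comp (a * b).ofConv) := by
    intro X _ _ φ a b
    apply ofConv_injective
    rw [AlgHom.comp_convMul_distrib]
  have push1 : ∀ {X : Type u} [CommRing X] [Algebra k X] (φ : R →ₐ[k] X),
      toConv (φ.comp (1 : WithConv (C →ₐ[k] R)).ofConv) = 1 := fun φ =>
    ofConv_injective (AlgHom.ext fun c => by simp)
  have assoc' : ∀ {X : Type u} [CommRing X] [Algebra k X] (a b c : WithConv (C →ₐ[k] X)),
      (a * (b * c)).ofConv = (a * b * c).ofConv := fun a b c => by rw [mul_assoc]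
  have hhB : ∀ b ∈ B, h b = algebraMap k _ (counit (R := k) b) := by
    intro b hb
    have h1 : h b = (toConv (iR.comp (f.comp S)) * toConv (iR.comp f)).ofConv b := by
      show (toConv (iR.comp (f.comp S)) * toConv iC).ofConv b = _
      rw [AlgHom.convMul_apply, AlgHom.convMul_apply]
      obtain ⟨w, hw⟩ := hB.comul_mem b hb
      rw [← hw]
      clear hw
      induction w using TensorProduct.induction_on with
      | zero => simp
      | add x y hx hy => simp only [map_add, hx, hy]
      | tmul x y =>
        simp only [TensorProduct.map_tmul, AlgHom.toLinearMap_apply, Subalgebra.coe_val,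
          Algebra.TensorProduct.lift_tmul, ofConv_toConv, AlgHom.comp_apply]
        congr 1
        show (1 : R) ⊗ₜ[B] (y : C) = f y ⊗ₜ[B] (1 : C)
        rw [← hf, show (y : C) = algebraMap B C y from rfl, Algebra.algebraMap_eq_smul_one,
          Algebra.algebraMap_eq_smul_one, TensorProduct.smul_tmul]
    rw [h1, push iR (toConv (f.comp S)) (toConv f), hinv, push1]
    simp
  let hQ : C ⧸ augJ B →ₐ[k] R ⊗[B] C := Ideal.Quotient.liftₐ (augJ B) h (fun x hx => by
    refine (Ideal.span_le (I := RingHom.ker h)).2 (fun b hb => ?_) hx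
    show h b = 0
    rw [hhB b hb.1, hb.2, map_zero])
  let Ω : R ⊗[k] (C ⧸ augJ B) →ₐ[R] R ⊗[B] C :=
    Algebra.TensorProduct.lift (Algebra.ofId R _) hQ (fun _ _ => Commute.all _ _)
  have hΩR : ∀ r, Ω (jR r) = iR r := fun r => by simp [Ω, jR, iR]
  have hΩQ : ∀ c, Ω (jQ (q c)) = h c := fun c => by
    show Ω ((1 : R) ⊗ₜ[k] Ideal.Quotient.mk _ c) = _
    simp only [Ω, Algebra.TensorProduct.lift_tmul, map_one, one_mul]
    exact Ideal.Quotient.liftₐ_apply _ _ _ _
  have hΨR : ∀ r, Ψ (iR r) = jR r := fun r => by simp [Ψ, iR, jR]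
  have hΨC : ∀ c, Ψ (iC c) = g c := fun c => by
    show Ψ ((1 : R) ⊗ₜ[B] c) = _
    simp [Ψ, g', ← Algebra.TensorProduct.one_def]
  have e1 : Ω.comp Ψ = AlgHom.id R _ := by
    refine Algebra.TensorProduct.ext (by ext) (AlgHom.ext fun c => ?_)
    show Ω (Ψ (iC c)) = iC c
    rw [hΨC]
    have h1 : (Ω.restrictScalars k).comp g = iC := by
      rw [AlgHom.comp_convMul_distrib, ofConv_toConv, ofConv_toConv]
      rw [show (Ω.restrictScalars k).comp (jR.comp f) = iR.comp f from AlgHom.ext fun c => hΩR _,
        show (Ω.restrictScalars k).comp (jQ.comp q) = h from AlgHom.ext fun c => hΩQ c]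
      show (toConv (iR.comp f) * (toConv (iR.comp (f.comp S)) * toConv iC)).ofConv = iC
      refine (assoc' _ _ _).trans ?_
      rw [push iR (toConv f) (toConv (f.comp S)), hinv', push1]
      exact congrArg ofConv (one_mul (toConv iC))
    exact AlgHom.congr_fun h1 c
  have e2 : Ψ.comp Ω = AlgHom.id R _ := by
    refine Algebra.TensorProduct.ext (by ext) (AlgHom.ext fun c => ?_)
    obtain ⟨c, rfl⟩ := Ideal.Quotient.mk_surjective c
    show Ψ (Ω (jQ (q c))) = jQ (q c)
    rw [hΩQ]
    have h1 : (Ψ.restrictScalars k).comp h = jQ.comp q := by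
      rw [AlgHom.comp_convMul_distrib, ofConv_toConv, ofConv_toConv]
      rw [show (Ψ.restrictScalars k).comp (iR.comp (f.comp S)) = jR.comp (f.comp S) from
          AlgHom.ext fun c => hΨR _,
        show (Ψ.restrictScalars k).comp iC = g from AlgHom.ext fun c => hΨC c]
      show (toConv (jR.comp (f.comp S)) * (toConv (jR.comp f) * toConv (jQ.comp q))).ofConv = _
      refine (assoc' _ _ _).trans ?_
      rw [push jR (toConv (f.comp S)) (toConv f), hinv, push1]
      exact congrArg ofConv (one_mul (toConv (jQ.comp q)))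
    exact AlgHom.congr_fun h1 c
  refine ⟨AlgEquiv.ofAlgHom Ψ Ω e2 e1, fun c => ?_⟩
  exact (hΨC c).trans (hg c)

end Groth.Agent.HopfFlat
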