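import Groth.Agent.Lib.FinGrp20.Basic
import Groth.Agent.Lib.FlatH4.GenFreeRed
import Mathlib.RingTheory.RingHom.Flat
import Mathlib.RingTheory.Flat.FaithfullyFlat.Algebra
import Mathlib.FieldTheory.IsAlgClosed.Basic
import Mathlib.RingTheory.Jacobson.Ring
import Mathlib.RingTheory.Localization.BaseChange

/-!
# Faithful flatness over a reduced Hopf subalgebra, by translations
-/

universe u

open TensorProduct Coalgebra HopfAlgebra WithConv

namespace Groth.Agent.HopfFlat

variable {k : Type u} [Field k]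

section Translation

variable {A : Type u} [CommRing A] [HopfAlgebra k A]

/-- Translation by a rational point. -/
noncomputable def tr (g : WithConv (A →ₐ[k] k)) : A →ₐ[k] A :=
  (toConv ((Algebra.ofId k A).comp g.ofConv) * toConv (AlgHom.id k A)).ofConv

theorem comp_tr (g h : WithConv (A →ₐ[k] k)) : h.ofConv.comp (tr g) = (g * h).ofConv := by
  rw [tr, AlgHom.comp_convMul_distrib]
  congr 2
  exact congrArg toConv (AlgHom.ext fun x => by simp)

theorem tr_comp_tr (g : WithConv (A →ₐ[k] k)) : (tr g).comp (tr g⁻¹) = AlgHom.id k A := by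
  show (tr g).comp (toConv ((Algebra.ofId k A).comp g⁻¹.ofConv) * toConv (AlgHom.id k A)).ofConv = _
  rw [AlgHom.comp_convMul_distrib]
  have h1 : toConv ((tr g).comp (toConv ((Algebra.ofId k A).comp g⁻¹.ofConv)).ofConv) =
      toConv ((Algebra.ofId k A).comp g⁻¹.ofConv) := congrArg toConv (AlgHom.ext fun x => by simp)
  rw [h1, ofConv_toConv, AlgHom.comp_id]
  show (toConv ((Algebra.ofId k A).comp g⁻¹.ofConv) *
    (toConv ((Algebra.ofId k A).comp g.ofConv) * toConv (AlgHom.id k A))).ofConv = _
  rw [← mul_assoc]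
  have h2 : toConv ((Algebra.ofId k A).comp g⁻¹.ofConv) * toConv ((Algebra.ofId k A).comp g.ofConv) = 1 := by
    apply ofConv_injective
    rw [← AlgHom.comp_convMul_distrib, inv_mul_cancel]
    exact AlgHom.ext fun x => by simp
  rw [h2, one_mul]

theorem tr_injective (g : WithConv (A →ₐ[k] k)) : Function.Injective (tr g) :=
  Function.LeftInverse.injective (g := tr g⁻¹) fun x => by
    have := AlgHom.congr_fun (tr_comp_tr g⁻¹) x
    rwa [inv_inv] at this

/-- Translation as an automorphism. -/
noncomputable def trEquiv (g : WithConv (A →ₐ[k] k)) : A ≃ₐ[k] A :=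
  AlgEquiv.ofAlgHom (tr g) (tr g⁻¹) (tr_comp_tr g) (by have := tr_comp_tr g⁻¹; rwa [inv_inv] at this)

variable [IsAlgClosed k] [Algebra.FiniteType k A]

theorem exists_point_ker (M : Ideal A) [M.IsMaximal] : ∃ h : A →ₐ[k] k, RingHom.ker h = M := by
  letI := Ideal.Quotient.field M
  haveI : Algebra.FiniteType k (A ⧸ M) :=
    (inferInstance : Algebra.FiniteType k A).of_surjective (Ideal.Quotient.mkₐ k M) Ideal.Quotient.mk_surjective
  haveI : Module.Finite k (A ⧸ M) := finite_of_finite_type_of_isJacobsonRing k (A ⧸ M)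
  let e : k ≃ₐ[k] A ⧸ M := AlgEquiv.ofBijective (Algebra.ofId k (A ⧸ M))
    (IsAlgClosed.algebraMap_bijective_of_isIntegral (k := k) (K := A ⧸ M))
  refine ⟨e.symm.toAlgHom.comp (Ideal.Quotient.mkₐ k M), ?_⟩
  ext y
  rw [RingHom.mem_ker]
  show e.symm (Ideal.Quotient.mk M y) = 0 ↔ y ∈ M
  rw [EmbeddingLike.map_eq_zero_iff, Ideal.Quotient.eq_zero_iff_mem]

theorem exists_point_ne_zero {a : A} (ha : ¬ IsNilpotent a) : ∃ z : A →ₐ[k] k, z a ≠ 0 := by
  haveI : IsJacobsonRing A := isJacobsonRing_of_finiteType (A := k)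
  by_contra hall
  push_neg at hall
  refine ha ?_
  rw [← mem_nilradical]
  have h1 : nilradical A = (nilradical A).jacobson :=
    ((isJacobsonRing_iff.1 inferInstance) _ (Ideal.radical_isRadical ⊥)).symm
  rw [h1, Ideal.jacobson, Submodule.mem_sInf]
  rintro M ⟨-, hM⟩
  obtain ⟨z, hz⟩ := exists_point_ker (k := k) M
  rw [← hz]
  exact hall z

end Translation

variable [IsAlgClosed k] {A B : Type u} [CommRing A] [HopfAlgebra k A] [Algebra.FiniteType k A] [CommRing B]
  [HopfAlgebra k B] [Algebra.FiniteType k B] [Algebra B A] [IsScalarTower k B A]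

theorem comp_tr_comm (f : B →ₐc[k] A) (g : WithConv (A →ₐ[k] k)) (b : B) :
    f (tr (toConv (g.ofConv.comp (f : B →ₐ[k] A))) b) = tr g (f b) := by
  have h1 := congrArg (fun φ : B →ₐ[k] A => φ b) (AlgHom.comp_convMul_distrib (f : B →ₐ[k] A)
    (toConv ((Algebra.ofId k B).comp (g.ofConv.comp (f : B →ₐ[k] A)))) (toConv (AlgHom.id k B)))
  have h2 := congrArg (fun φ : B →ₐ[k] A => φ b) (AlgHom.convMul_comp_bialgHom_distrib
    (toConv ((Algebra.ofId k A).comp g.ofConv)) (toConv (AlgHom.id k A)) f)
  refine h1.trans (Eq.trans ?_ h2.symm)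
  congr 3
  exact congrArg toConv (AlgHom.ext fun x => by simp [AlgHomClass.commutes])

set_option maxHeartbeats 1000000 in
/-- Flatness over a reduced Hopf subalgebra. -/
theorem flat_of_isReduced [IsReduced B] (f : B →ₐc[k] A) (hfA : ∀ b, algebraMap B A b = f b)
    (hinj : Function.Injective f) : Module.Flat B A := by
  classical
  haveI : Algebra.FiniteType B A := Algebra.FiniteType.of_restrictScalars_finiteType k B A
  haveI : Nontrivial B := Bialgebra.nontrivial k
  obtain ⟨a, ha, -, hfree⟩ := FlatH4.exists_free_and_finitePresentation_of_isReduced (R := B) (S := A)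
    (one_ne_zero (α := B))
  let L := Localization.Away (f a)
  have hflat : ((algebraMap A L).comp (algebraMap B A)).Flat := by
    let Ba := Localization.Away a
    haveI : Module.Free Ba (Ba ⊗[B] A) := (hfree Ba (IsLocalization.Away.algebraMap_isUnit a)).1
    haveI : Module.Flat B Ba := IsLocalization.flat Ba (Submonoid.powers a)
    haveI : Module.Flat Ba (Ba ⊗[B] A) := Module.Flat.of_free
    haveI : Module.Flat B (Ba ⊗[B] A) := Module.Flat.trans B Ba _
    haveI : IsLocalizedModule (Submonoid.powers a) (TensorProduct.mk B Ba A 1) :=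
      (isLocalizedModule_iff_isBaseChange (Submonoid.powers a) Ba _).2 (TensorProduct.isBaseChange B A Ba)
    haveI : IsLocalization (Algebra.algebraMapSubmonoid A (Submonoid.powers a)) L := by
      rw [Algebra.algebraMapSubmonoid_powers, hfA]
      exact Localization.isLocalization
    haveI : IsLocalizedModule (Submonoid.powers a) (IsScalarTower.toAlgHom B A L).toLinearMap :=
      isLocalizedModule_iff_isLocalization.2 inferInstance
    haveI : Module.Flat B L := Module.Flat.of_linearEquiv (IsLocalizedModule.linearEquiv (Submonoid.powers a)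
      (IsScalarTower.toAlgHom B A L).toLinearMap (TensorProduct.mk B Ba A 1))
    exact RingHom.flat_algebraMap_iff.2 this
  let S : Set A := Set.range fun g : WithConv (A →ₐ[k] k) => tr g (f a)
  have hS : Ideal.span S = ⊤ := by
    by_contra h
    obtain ⟨M, hM, hle⟩ := Ideal.exists_le_maximal _ h
    haveI := hM
    obtain ⟨p, hp⟩ := exists_point_ker (k := k) M
    obtain ⟨q, hq⟩ := exists_point_ne_zero (k := k) (a := f a) fun hn => ha
      ((IsNilpotent.map_iff hinj).1 hn).eq_zero
    have hmem : tr (toConv q * (toConv p)⁻¹) (f a) ∈ M := hle (Ideal.subset_span ⟨_, rfl⟩)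
    rw [← hp, RingHom.mem_ker] at hmem
    have h' : ((toConv p).ofConv.comp (tr (toConv q * (toConv p)⁻¹))) (f a) = 0 := hmem
    rw [comp_tr, inv_mul_cancel_right] at h'
    exact hq h'
  rw [← RingHom.flat_algebraMap_iff]
  refine RingHom.Flat.ofLocalizationSpanTarget _ S hS ?_
  rintro ⟨_, g, rfl⟩
  let gB : WithConv (B →ₐ[k] k) := toConv (g.ofConv.comp (f : B →ₐ[k] A))
  let e : A ≃+* A := (trEquiv g).toRingEquiv
  have hmap : (Submonoid.powers (f a)).map e.toMonoidHom = Submonoid.powers (tr g (f a)) := by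
    rw [Submonoid.map_powers]
    rfl
  let eL := IsLocalization.ringEquivOfRingEquiv L (Localization.Away (tr g (f a))) e hmap
  let eB : B ≃+* B := (trEquiv gB).symm.toRingEquiv
  have hcomp : (algebraMap A (Localization.Away (tr g (f a)))).comp (algebraMap B A) =
      (eL.toRingHom.comp ((algebraMap A L).comp (algebraMap B A))).comp eB.toRingHom := by
    refine RingHom.ext fun b => ?_
    show algebraMap A _ (algebraMap B A b) = eL (algebraMap A L (algebraMap B A (eB b)))
    refine Eq.trans ?_ (IsLocalization.ringEquivOfRingEquiv_eq (S := L)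
      (Q := Localization.Away (tr g (f a))) hmap _).symm
    refine congrArg (algebraMap A (Localization.Away (tr g (f a)))) ?_
    show algebraMap B A b = tr g (algebraMap B A (eB b))
    rw [hfA, hfA, ← comp_tr_comm f g]
    exact congrArg f ((trEquiv gB).apply_symm_apply b).symm
  show RingHom.Flat ((algebraMap A (Localization.Away (tr g (f a)))).comp (algebraMap B A))
  rw [hcomp]
  exact (RingHom.Flat.of_bijective eB.bijective).comp (hflat.comp (.of_bijective eL.bijective))

/-- Below every nonzero element there is one whose nonvanishing locus is in the image. -/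
theorem exists_dense [IsReduced B] (f : B →ₐc[k] A) (hfA : ∀ b, algebraMap B A b = f b)
    (hinj : Function.Injective f) {b : B} (hb : b ≠ 0) :
    ∃ a : B, a ≠ 0 ∧ b ∣ a ∧
      ∀ y : B →ₐ[k] k, y a ≠ 0 → ∃ z : A →ₐ[k] k, z.comp (f : B →ₐ[k] A) = y := by
  classical
  haveI : Algebra.FiniteType B A := Algebra.FiniteType.of_restrictScalars_finiteType k B A
  obtain ⟨a, ha, hba, hfree⟩ := FlatH4.exists_free_and_finitePresentation_of_isReduced (R := B) (S := A) hb
  refine ⟨a, ha, hba, fun y hy => ?_⟩
  let Ba := Localization.Away a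
  haveI : Module.Free Ba (Ba ⊗[B] A) := (hfree Ba (IsLocalization.Away.algebraMap_isUnit a)).1
  haveI : IsLocalizedModule (Submonoid.powers a) (TensorProduct.mk B Ba A 1) :=
    (isLocalizedModule_iff_isBaseChange (Submonoid.powers a) Ba _).2 (TensorProduct.isBaseChange B A Ba)
  haveI : Nontrivial (Ba ⊗[B] A) := by
    refine nontrivial_of_ne 1 0 fun h1 => ha ?_
    obtain ⟨⟨_, n, rfl⟩, hn⟩ := (IsLocalizedModule.eq_zero_iff (Submonoid.powers a)
      (f := TensorProduct.mk B Ba A 1) (m := (1 : A))).1 h1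
    have hn' : f (a ^ n) = 0 := by
      rw [← hfA, Algebra.algebraMap_eq_smul_one]
      exact hn
    exact IsReduced.eq_zero a ⟨n, hinj (hn'.trans (map_zero f).symm)⟩
  haveI : Module.FaithfullyFlat Ba (Ba ⊗[B] A) := inferInstance
  letI : Algebra Ba k := (IsLocalization.Away.lift (S := Ba) a (g := y.toRingHom) (Ne.isUnit hy)).toAlgebra
  obtain ⟨Q, hQ⟩ := PrimeSpectrum.comap_surjective_of_faithfullyFlat (A := Ba) (B := Ba ⊗[B] A)
    ⟨RingHom.ker (algebraMap Ba k), RingHom.ker_isPrime _⟩
  let P : Ideal A := Q.asIdeal.comap (Algebra.TensorProduct.includeRight : A →ₐ[B] Ba ⊗[B] A).toRingHom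
  haveI : P.IsPrime := Q.2.comap _
  obtain ⟨M, hM, hPM⟩ := Ideal.exists_le_maximal P (Ideal.IsPrime.ne_top inferInstance)
  haveI := hM
  obtain ⟨z, hz⟩ := exists_point_ker (k := k) M
  refine ⟨z, AlgHom.ext fun x => ?_⟩
  have hx : f (x - algebraMap k B (y x)) ∈ P := by
    show (1 : Ba) ⊗ₜ[B] f (x - algebraMap k B (y x)) ∈ Q.asIdeal
    rw [← hfA, Algebra.algebraMap_eq_smul_one, TensorProduct.tmul_smul, ← algebraMap_smul Ba,
      ← Algebra.TensorProduct.one_def, ← Algebra.algebraMap_eq_smul_one]
    have h1 : algebraMap B Ba (x - algebraMap k B (y x)) ∈ RingHom.ker (algebraMap Ba k) := by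
      show IsLocalization.Away.lift (S := Ba) a (Ne.isUnit hy) (algebraMap B Ba _) = 0
      rw [IsLocalization.Away.lift_eq]
      simp
    exact (congrArg PrimeSpectrum.asIdeal hQ).ge h1
  have h2 := hPM hx
  rw [← hz, RingHom.mem_ker, map_sub, AlgHomClass.commutes f, map_sub, AlgHom.commutes, sub_eq_zero] at h2
  exact h2

/-- Faithful flatness over a reduced Hopf subalgebra. -/
theorem faithfullyFlat_of_isReduced [IsReduced B] (f : B →ₐc[k] A) (hfA : ∀ b, algebraMap B A b = f b)
    (hinj : Function.Injective f) : Module.FaithfullyFlat B A := by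
  classical
  haveI := flat_of_isReduced f hfA hinj
  haveI : Nontrivial B := Bialgebra.nontrivial k
  obtain ⟨a, ha, -, hD⟩ := exists_dense f hfA hinj (one_ne_zero (α := B))
  have hlift : ∀ y : B →ₐ[k] k, ∃ z : A →ₐ[k] k, z.comp (f : B →ₐ[k] A) = y := by
    intro y
    let Y : WithConv (B →ₐ[k] k) := toConv y
    obtain ⟨a', ha', ⟨c, hc⟩, hD'⟩ := exists_dense f hfA hinj (b := tr Y a)
      (fun h => ha (tr_injective Y (h.trans (map_zero _).symm)))
    obtain ⟨u, hu⟩ := exists_point_ne_zero (k := k) (a := a') fun hn => ha' hn.eq_zero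
    obtain ⟨z₁, hz₁⟩ := hD' u hu
    have h2 : (Y * toConv u).ofConv a ≠ 0 := by
      rw [← comp_tr Y (toConv u)]
      intro h0
      refine hu ?_
      rw [hc, map_mul]
      exact mul_eq_zero_of_left h0 _
    obtain ⟨z₂, hz₂⟩ := hD _ h2
    let pre : WithConv (A →ₐ[k] k) →* WithConv (B →ₐ[k] k) :=
      MonoidHom.mk' (fun z => toConv (z.ofConv.comp (f : B →ₐ[k] A))) fun p q =>
        ofConv_injective (AlgHom.convMul_comp_bialgHom_distrib p q f)
    have e1 : pre (toConv z₁) = toConv u := ofConv_injective hz₁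
    have e2 : pre (toConv z₂) = Y * toConv u := ofConv_injective hz₂
    refine ⟨(toConv z₂ * (toConv z₁)⁻¹).ofConv, ?_⟩
    have : pre (toConv z₂ * (toConv z₁)⁻¹) = Y := by rw [map_mul, map_inv, e1, e2, mul_inv_cancel_right]
    exact congrArg ofConv this
  refine ⟨fun m hm htop => ?_⟩
  haveI := hm
  obtain ⟨y, hy⟩ := exists_point_ker (k := k) m
  obtain ⟨z, hz⟩ := hlift y
  rw [Ideal.smul_top_eq_map, Submodule.restrictScalars_eq_top_iff] at htop
  have hle : m.map (algebraMap B A) ≤ RingHom.ker z := Ideal.map_le_iff_le_comap.2 fun b hb => by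
    show z (algebraMap B A b) = 0
    rw [hfA]
    rw [← hy] at hb
    exact (AlgHom.congr_fun hz b).trans hb
  rw [htop] at hle
  exact RingHom.ker_ne_top z (top_le_iff.1 hle)

end Groth.Agent.HopfFlat
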