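import Groth.Agent.Lib.HopfFlat20.Main
import Mathlib.RingTheory.HopfAlgebra.Quotient
import Mathlib.RingTheory.HopfAlgebra.Convolution

/-!
# Faithful flatness over the image of a bialgebra map
-/

universe u v w

open TensorProduct Coalgebra HopfAlgebra WithConv

namespace Groth.Agent.HopfFlat

variable {k : Type u} [Field k] {A : Type v} {B : Type w} [CommRing A] [CommRing B] [HopfAlgebra k A]
  [HopfAlgebra k B]

theorem map_antipode' (φ : A →ₐc[k] B) (c : A) : φ (antipode k c) = antipode k (φ c) := by
  let x : WithConv (A →ₐ[k] B) := toConv (φ : A →ₐ[k] B)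
  have h : toConv ((antipodeAlgHom k B).comp (φ : A →ₐ[k] B)) * x = 1 := by
    apply ofConv_injective
    refine AlgHom.ext fun c => ?_
    rw [AlgHom.convMul_apply, AlgHom.convOne_apply]
    have e : ∀ z : A ⊗[k] A, Algebra.TensorProduct.lift ((antipodeAlgHom k B).comp (φ : A →ₐ[k] B))
        (φ : A →ₐ[k] B) (fun _ _ ↦ .all ..) z =
        LinearMap.mul' k B ((antipode k).rTensor B
          (TensorProduct.map (φ : A →ₗ[k] B) (φ : A →ₗ[k] B) z)) := by
      intro z
      induction z using TensorProduct.induction_on with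
      | zero => simp
      | tmul a b => simp
      | add a b ha hb => simp only [map_add, ha, hb]
    simp only [x, ofConv_toConv]
    rw [e, CoalgHomClass.map_comp_comul_apply φ, mul_antipode_rTensor_comul_apply,
      CoalgHomClass.counit_comp_apply φ]
  have h2 : x⁻¹ = toConv ((antipodeAlgHom k B).comp (φ : A →ₐ[k] B)) := inv_eq_of_mul_eq_one_left h
  exact DFunLike.congr_fun (congrArg WithConv.ofConv h2) c

/-- The homomorphism theorem in Hopf form. -/
theorem faithfullyFlat_range [Algebra.FiniteType k A] [Algebra.FiniteType k B] (f : A →ₐc[k] B) :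
    ((f : A →ₐ[k] B).range.val : (f : A →ₐ[k] B).range →+* B).FaithfullyFlat := by
  let I : Ideal A := RingHom.ker (f : A →ₐ[k] B)
  let q := Ideal.Quotient.mkₐ k I
  let fb : A ⧸ I →ₐ[k] B := Ideal.Quotient.liftₐ I (f : A →ₐ[k] B) fun _ h => h
  have hfb : ∀ a, fb (q a) = f a := fun a => Ideal.Quotient.liftₐ_apply _ _ _ _
  have hinj : Function.Injective fb := by
    intro x y h
    obtain ⟨x, rfl⟩ := Ideal.Quotient.mk_surjective x
    obtain ⟨y, rfl⟩ := Ideal.Quotient.mk_surjective y
    refine Ideal.Quotient.eq.2 ?_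
    show f (x - y) = 0
    rw [map_sub, sub_eq_zero]
    exact ((hfb x).symm.trans h).trans (hfb y)
  have hmm : ∀ z : A ⊗[k] A, Algebra.TensorProduct.map fb fb (Algebra.TensorProduct.map q q z) =
      TensorProduct.map (f : A →ₗ[k] B) (f : A →ₗ[k] B) z := by
    intro z
    induction z using TensorProduct.induction_on with
    | zero => simp
    | add a b ha hb => simp only [map_add, ha, hb]
    | tmul a b =>
      show fb (q a) ⊗ₜ[k] fb (q b) = f a ⊗ₜ[k] f b
      rw [hfb, hfb]
  haveI : I.IsHopfIdeal k :=
    { counit_eq_zero := fun x (hx : f x = 0) => by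
        rw [← CoalgHomClass.counit_comp_apply f x, hx, map_zero]
      map_mkQ_comul_eq_zero := fun x (hx : f x = 0) => by
        refine TensorProduct.map_injective_of_flat_flat fb.toLinearMap fb.toLinearMap hinj hinj ?_
        refine Eq.trans ?_ (_root_.map_zero (TensorProduct.map fb.toLinearMap fb.toLinearMap)).symm
        show Algebra.TensorProduct.map fb fb (Algebra.TensorProduct.map q q (comul (R := k) x)) = 0
        rw [hmm, CoalgHomClass.map_comp_comul_apply f x, hx, map_zero]
      antipode_mem := fun x (hx : f x = 0) => by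
        show f (antipode k x) = 0
        rw [map_antipode', hx, map_zero] }
  let g : A ⧸ I →ₐc[k] B := BialgHom.ofAlgHom fb
    (AlgHom.ext fun x => by
      obtain ⟨x, rfl⟩ := Ideal.Quotient.mk_surjective x
      show counit (R := k) (fb (q x)) = counit (R := k) x
      rw [hfb, CoalgHomClass.counit_comp_apply])
    (AlgHom.ext fun x => by
      obtain ⟨x, rfl⟩ := Ideal.Quotient.mk_surjective x
      show Algebra.TensorProduct.map fb fb (Algebra.TensorProduct.map q q (comul (R := k) x)) =
        comul (R := k) (fb (q x))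
      rw [hmm, hfb, CoalgHomClass.map_comp_comul_apply])
  haveI : Algebra.FiniteType k (A ⧸ I) :=
    (inferInstance : Algebra.FiniteType k A).of_surjective q Ideal.Quotient.mk_surjective
  have hff := faithfullyFlat_of_injective g hinj
  rw [RingHom.FaithfullyFlat.iff_flat_and_comap_surjective] at hff ⊢
  let e : A ⧸ I ≃+* (f : A →ₐ[k] B).range :=
    RingEquiv.ofBijective (fb.codRestrict (f : A →ₐ[k] B).range fun x => by
      obtain ⟨x, rfl⟩ := Ideal.Quotient.mk_surjective x
      exact ⟨x, (hfb x).symm⟩).toRingHom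
      ⟨fun x y h => hinj (congrArg Subtype.val h), fun ⟨_, a, rfl⟩ => ⟨q a, Subtype.ext (hfb a)⟩⟩
  have he : ((f : A →ₐ[k] B).range.val : (f : A →ₐ[k] B).range →+* B) =
      (g : A ⧸ I →+* B).comp e.symm.toRingHom := RingHom.ext fun x => by
    obtain ⟨y, rfl⟩ := e.surjective x
    show _ = fb (e.symm (e y))
    rw [e.symm_apply_apply]
    rfl
  rw [he]
  refine ⟨(RingHom.Flat.of_bijective e.symm.bijective).comp hff.1, fun p => ?_⟩
  obtain ⟨P, hP⟩ := hff.2 (PrimeSpectrum.comap e.toRingHom p)
  refine ⟨P, ?_⟩
  rw [PrimeSpectrum.comap_comp_apply, hP, ← PrimeSpectrum.comap_comp_apply]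
  have : e.toRingHom.comp e.symm.toRingHom = RingHom.id _ := RingHom.ext fun x => e.apply_symm_apply x
  rw [this, PrimeSpectrum.comap_id]

end Groth.Agent.HopfFlat
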